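import Cfsg.Agent.LangTorus.Perm
import Cfsg.Agent.LangChev.Basic
import Mathlib.FieldTheory.Finite.Basic
import Mathlib.FieldTheory.IsAlgClosed.AlgebraicClosure
import Mathlib.RingTheory.RootsOfUnity.AlgebraicallyClosed

/-!
# Self-centralising cyclic tori
-/

set_option autoImplicit false
set_option linter.style.haveILetI false

namespace CfsgLib.LangTorus

open Cfsg.Lie CfsgLib.Chevalley CfsgLib.ChevTorus CfsgLib.LangChev
open scoped MatrixGroups

variable {D : ChevalleyDatum} {T : Cert} (hW : GoodWeyl D) (hT : T.Good D)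

theorem nR_mul_tor_list {F : Type*} [Field F] :
    ∀ (ω : List (Fin D.rank)) (χ : Root D → Fˣ),
      nWord hW F ω * tor χ =
        tor (fun s => χ (((ω.map (wPerm hW)).prod)⁻¹ s)) * nWord hW F ω
  | [], χ => by simp [nWord]
  | i :: ω, χ => by
    rw [nWord_cons, mul_assoc, nR_mul_tor_list ω χ, ← mul_assoc, tor_mul_nR, mul_assoc]
    congr 2

variable {K : Type*} [Field K]

/-- The values of a torus element on a root through those on the conjugates of the cyclic vector. -/
theorem torVal_eq (c : Fin D.rank → Kˣ) (r : Root D) :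
    torVal c (Sum.inr r) = ∏ j : Fin D.rank,
      torVal c (Sum.inr ((piP hW hT ^ (j : ℕ)) (alphaR hT))) ^ cd T r j := by
  simp only [torVal, wt_inr]
  rw [Finset.prod_congr rfl fun k _ => by rw [hT.cartan_eq hW r k]]
  simp only [← Finset.prod_zpow, ← zpow_mul]
  rw [Finset.prod_comm]
  refine Finset.prod_congr rfl fun k _ => ?_
  induction (Finset.univ : Finset (Fin D.rank)) using Finset.cons_induction with
  | empty => simp
  | cons a S ha ih => rw [Finset.sum_cons, Finset.prod_cons, zpow_add, ih, mul_comm (cd T r a)]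

/-- A torus element is recovered from its values on the conjugates of the cyclic vector. -/
theorem eq_prod_torVal (c : Fin D.rank → Kˣ) (k : Fin D.rank) :
    c k = ∏ j : Fin D.rank,
      torVal c (Sum.inr ((piP hW hT ^ (j : ℕ)) (alphaR hT))) ^ bi T j k := by
  simp only [torVal, wt_inr, ← Finset.prod_zpow, ← zpow_mul]
  rw [Finset.prod_comm, Finset.prod_eq_single k]
  · have h := hT.inv_right hW k k
    rw [if_pos rfl] at h
    conv_lhs => rw [← zpow_one (c k), ← h]
    induction (Finset.univ : Finset (Fin D.rank)) using Finset.cons_induction with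
    | empty => simp
    | cons a S ha ih => rw [Finset.sum_cons, Finset.prod_cons, zpow_add, ih]
  · intro i _ hik
    have h := hT.inv_right hW i k
    rw [if_neg hik] at h
    rw [← zpow_zero (c i), ← h]
    induction (Finset.univ : Finset (Fin D.rank)) using Finset.cons_induction with
    | empty => simp
    | cons a S ha ih => rw [Finset.sum_cons, Finset.prod_cons, zpow_add, ih]
  · simp

include hW hT in
theorem torC_injective : Function.Injective (torC D : (Fin D.rank → Kˣ) → GL D.Idx K) := by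
  intro c d h
  funext k
  rw [eq_prod_torVal hW hT c k, eq_prod_torVal hW hT d k]
  refine Finset.prod_congr rfl fun j _ => ?_
  congr 1
  refine Units.ext ?_
  have := congrArg (fun g : GL D.Idx K => (g : Matrix D.Idx D.Idx K)
    (Sum.inr ((piP hW hT ^ (j : ℕ)) (alphaR hT))) (Sum.inr ((piP hW hT ^ (j : ℕ)) (alphaR hT)))) h
  simpa [coe_torC] using this

/-- The torus element with values `a ^ fval r`. -/
def torElt (T : Cert) (D : ChevalleyDatum) (q : ℤ) (a : Kˣ) : Fin D.rank → Kˣ :=
  fun k => a ^ ∑ j : Fin D.rank, bi T j k * q ^ (j : ℕ)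

include hW hT in
theorem torVal_torElt (q : ℤ) (a : Kˣ) (r : Root D) :
    torVal (torElt T D q a) (Sum.inr r) = a ^ fval T D q r := by
  have hb : ∀ i : Fin D.rank,
      torVal (torElt T D q a) (Sum.inr ((piP hW hT ^ (i : ℕ)) (alphaR hT))) = a ^ q ^ (i : ℕ) := by
    intro i
    simp only [torVal, wt_inr, torElt, ← zpow_mul]
    have : ∀ S : Finset (Fin D.rank), ∀ g : Fin D.rank → ℤ, ∏ k ∈ S, a ^ g k = a ^ ∑ k ∈ S, g k := by
      intro S g
      induction S using Finset.cons_induction with
      | empty => simp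
      | cons b S hb ih => rw [Finset.prod_cons, Finset.sum_cons, zpow_add, ih]
    rw [this]
    congr 1
    simp only [Finset.sum_mul]
    rw [Finset.sum_comm, Finset.sum_eq_single i]
    · have h := hT.inv_left hW i i
      rw [if_pos rfl] at h
      conv_rhs => rw [← mul_one (q ^ (i : ℕ)), ← h, Finset.mul_sum]
      exact Finset.sum_congr rfl fun k _ => by ring
    · intro j _ hji
      have h := hT.inv_left hW j i
      rw [if_neg hji] at h
      rw [show (0 : ℤ) = q ^ (j : ℕ) * 0 by ring, ← h, Finset.mul_sum]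
      exact Finset.sum_congr rfl fun k _ => by ring
    · simp
  rw [torVal_eq hW hT, Finset.prod_congr rfl fun j _ => by rw [hb j, ← zpow_mul]]
  rw [fval]
  induction (Finset.univ : Finset (Fin D.rank)) using Finset.cons_induction with
  | empty => simp
  | cons b S hb ih => rw [Finset.prod_cons, Finset.sum_cons, zpow_add, ih, mul_comm (q ^ _)]

include hW in
/-- The permutations coming from the Weyl group are linear on the weights. -/
theorem exists_linear {C : Weyl.Cert D.rank} {M : CoxeterMatrix (Fin D.rank)}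
    {R : Weyl.RootTable} (h : Weyl.RootGood C M R) (v : M.Group) :
    ∃ L : (Fin D.rank → ℤ) →+ (Fin D.rank → ℤ), ∀ r : Root D,
      (fun k : Fin D.rank => D.cartan k (h.rootPerm v r)) = L fun k : Fin D.rank => D.cartan k r := by
  induction v using M.toCoxeterSystem.simple_induction_left with
  | one => exact ⟨AddMonoidHom.id _, fun r => by simp⟩
  | mul_simple_left w i ih =>
    obtain ⟨L, hL⟩ := ih
    let Li : (Fin D.rank → ℤ) →+ (Fin D.rank → ℤ) :=
      { toFun := fun x k => x k - x i * D.cartan k (pRoot hW i)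
        map_zero' := by funext k; simp
        map_add' := fun x y => by funext k; simp; ring }
    refine ⟨Li.comp L, fun r => ?_⟩
    rw [map_mul, CoxeterMatrix.toCoxeterSystem_simple, AddMonoidHom.comp_apply, ← hL r]
    funext k
    rw [Equiv.Perm.mul_apply, ← wPerm_eq_rootPerm hW h, hW.cartan_wPerm]
    rfl

variable {F : Type*} [Field F] [Fintype F]

/-- **A self-centralising cyclic subgroup** from a torus certificate. -/
theorem main {C : Weyl.Cert D.rank} {M : CoxeterMatrix (Fin D.rank)} {R : Weyl.RootTable}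
    (hW : GoodWeyl D) (h : Weyl.RootGood C M R) (hT : T.Good D) (hdet : (cartanMat D).det ≠ 0)
    (q N : ℕ) (hq : Fintype.card F = q) (hN : (N : ℤ) = pval T D q) (hb : T.bound < N)
    (hcop : N.Coprime q) :
    ∃ H : Subgroup ↥(D.group F), IsCyclic ↥H ∧ Nat.card ↥H = N ∧
      Subgroup.centralizer (H : Set ↥(D.group F)) = H := by
  classical
  obtain ⟨p, hchar⟩ := CharP.exists F
  haveI := hchar
  obtain ⟨f, hp, hf'⟩ := FiniteField.card F p
  haveI : Fact p.Prime := ⟨hp⟩
  have hqf : q = p ^ (f : ℕ) := hq ▸ hf'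
  let K := AlgebraicClosure F
  haveI : CharP K p := charP_of_injective_algebraMap (algebraMap F K).injective p
  set σ := frobGL (ι := D.Idx) K p (f : ℕ)
  set ω := wordF hT
  set n := nWord hW K ω
  set π := piP hW hT
  obtain ⟨g, hg, hgn⟩ := lang hW h hdet p (f : ℕ) f.pos (h₀ := n)
    (monomial_le_group hW (nWord_mem hW K ω))
  have hσg : σ g = g * n := by rw [← hgn, mul_inv_cancel_left]
  -- a primitive root of unity
  haveI : NeZero (N : K) := ⟨by
    rw [Ne, CharP.cast_eq_zero_iff K p]
    intro hdvd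
    have h1 : p ∣ Nat.gcd N q := Nat.dvd_gcd hdvd (hqf ▸ dvd_pow_self p f.pos.ne')
    rw [hcop] at h1
    exact hp.not_dvd_one h1⟩
  obtain ⟨a₀, ha₀⟩ := HasEnoughRootsOfUnity.exists_primitiveRoot K N
  have hN0 : N ≠ 0 := by omega
  set a : Kˣ := (ha₀.isUnit hN0).unit
  have ha : IsPrimitiveRoot a N := IsPrimitiveRoot.coe_units_iff.1 ha₀
  have hzpow : ∀ m : ℤ, a ^ m = 1 ↔ (pval T D (q : ℤ)) ∣ m := fun m => by
    rw [← hN]; exact ha.zpow_eq_one_iff_dvd m
  set c := torElt T D (q : ℤ) a
  set t := torC D c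
  have hval : ∀ r : Root D, torVal c (Sum.inr r) = a ^ fval T D (q : ℤ) r :=
    torVal_torElt hW hT _ a
  have hbq : (T.bound : ℤ) < pval T D (q : ℤ) := by rw [← hN]; exact_mod_cast hb
  have hcopZ : IsCoprime (pval T D (q : ℤ)) ((q : ℕ) : ℤ) := by
    rw [← hN, Nat.isCoprime_iff_coprime]; exact hcop
  have hreg : ∀ r : Root D, torVal c (Sum.inr r) ≠ 1 := fun r e => by
    rw [hval, hzpow] at e
    exact not_dvd_fval hW hT q hbq hcopZ r e
  -- Frobenius on the torus
  have hσtor : ∀ d : Fin D.rank → Kˣ, σ (torC D d) = torC D fun k => d k ^ q := fun d => by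
    show Matrix.GeneralLinearGroup.map _ (torC D d) = _
    rw [map_torC]
    congr 1
    funext k
    exact Units.ext (by rw [hqf]; simp [iterateFrobenius_def])
  have hconj : ∀ d : Fin D.rank → Kˣ, (∀ r : Root D,
      torVal d (Sum.inr (π r)) = torVal d (Sum.inr r) ^ q) ↔
        n * σ (torC D d) * n⁻¹ = torC D d := by
    intro d
    have htor : ∀ d' : Fin D.rank → Kˣ, torC D d' = tor fun s => torVal d' (Sum.inr s) := by
      intro d'
      rw [torC]
      congr 1
    rw [hσtor, htor, nR_mul_tor_list hW, mul_inv_cancel_right, htor d, tor_injective.eq_iff,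
      funext_iff]
    have hpow : ∀ s, torVal (fun k => d k ^ q) (Sum.inr s : D.Idx) =
        torVal d (Sum.inr s) ^ q := fun s => by
      simp only [torVal, ← Finset.prod_pow]
      exact Finset.prod_congr rfl fun k _ => by
        rw [← zpow_natCast, ← zpow_natCast, ← zpow_mul, ← zpow_mul, mul_comm]
    simp only [hpow]
    constructor
    · intro h1 s
      show torVal d (Sum.inr (π⁻¹ s)) ^ q = torVal d (Sum.inr s)
      rw [← h1 (π⁻¹ s), show π (π⁻¹ s) = s from π.apply_symm_apply s]
    · intro h1 r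
      have := h1 (π r)
      rw [show ((List.map (wPerm hW) ω).prod)⁻¹ (π r) = r from π.symm_apply_apply r] at this
      exact this.symm
  have hfixt : ∀ d : Fin D.rank → Kˣ, n * σ (torC D d) * n⁻¹ = torC D d →
      σ (g * torC D d * g⁻¹) = g * torC D d * g⁻¹ := by
    intro d hd
    rw [map_mul, map_mul, map_inv, hσg]
    rw [show g * n * σ (torC D d) * (g * n)⁻¹ = g * (n * σ (torC D d) * n⁻¹) * g⁻¹ by group, hd]
  have htfix : n * σ t * n⁻¹ = t := (hconj c).1 fun r => by
    rw [hval, hval, ← zpow_natCast, ← zpow_mul, ← mul_inv_eq_one, ← zpow_sub, hzpow,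
      fval_piP hW hT]
    exact ⟨-cd T r (D.rank - 1), by ring⟩
  have hinj := torC_injective (K := K) hW hT
  have htG : t ∈ D.group K := diag_le_group hW (torC_mem_diag hW c)
  obtain ⟨x₀, hx₀, hx₀e⟩ := exists_descend (F := F) p (f : ℕ) hW h hinj hf'
    (mul_mem (mul_mem hg htG) (inv_mem hg)) (hfixt c htfix)
  set ι := Matrix.GeneralLinearGroup.map (n := D.Idx) (algebraMap F K)
  have hιinj : Function.Injective ι := fun x y e =>
    Units.ext (Matrix.map_injective (f := algebraMap F K) (algebraMap F K).injective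
      (congrArg Units.val e))
  -- the order
  have hcpow : ∀ m : ℤ, t ^ m = torC D (fun k => c k ^ m) := fun m =>
    ((torHom D K).map_zpow c m).symm
  have halpha : fval T D (q : ℤ) (alphaR hT) = 1 := by
    have := fval_pow_alpha hW hT (q : ℤ) ⟨0, hT.word_facts.2.2.1⟩
    simpa using this
  have hva : torVal c (Sum.inr (alphaR hT)) = a := by rw [hval, halpha, zpow_one]
  have horder : orderOf t = N := by
    rw [show t = torHom D K c from rfl, orderOf_injective (torHom D K) hinj]
    refine Nat.dvd_antisymm ?_ ?_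
    · refine orderOf_dvd_of_pow_eq_one (funext fun k => ?_)
      show (torElt T D (q : ℤ) a k) ^ N = 1
      rw [torElt]
      rw [← zpow_natCast, ← zpow_mul, hzpow, ← hN]
      exact dvd_mul_left _ _
    · rw [ha.eq_orderOf, ← hva]
      exact orderOf_map_dvd (MonoidHom.mk' (fun d : Fin D.rank → Kˣ =>
        torVal d (Sum.inr (alphaR hT) : D.Idx)) fun d e => by
          simp [torVal, mul_zpow, Finset.prod_mul_distrib]) c
  set X₀ : ↥(D.group F) := ⟨x₀, hx₀⟩
  let Φ : ↥(D.group F) →* GL D.Idx K := ι.comp (D.group F).subtype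
  have hΦ : Function.Injective Φ := fun x y e => Subtype.ext (hιinj e)
  have hordX : orderOf X₀ = N := by
    rw [← orderOf_injective Φ hΦ, show Φ X₀ = g * t * g⁻¹ from hx₀e, ← horder]
    exact orderOf_injective (MulAut.conj g).toMonoidHom (MulAut.conj g).injective t
  refine ⟨Subgroup.zpowers X₀, inferInstance, by rw [Nat.card_zpowers, hordX], le_antisymm ?_ ?_⟩
  swap
  · intro x hx
    refine Subgroup.mem_centralizer_iff.2 fun y hy => ?_
    obtain ⟨i, rfl⟩ := Subgroup.mem_zpowers_iff.1 hx
    obtain ⟨j, rfl⟩ := Subgroup.mem_zpowers_iff.1 hy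
    exact Commute.zpow_zpow_self _ _ _
  intro y hy
  have hcomm := congrArg Φ (Subgroup.mem_centralizer_iff.1 hy _ (Subgroup.mem_zpowers X₀))
  rw [map_mul, map_mul, show Φ X₀ = g * t * g⁻¹ from hx₀e] at hcomm
  set z := g⁻¹ * Φ y * g with hzdef
  have hzG : z ∈ D.group K :=
    mul_mem (mul_mem (inv_mem hg) (map_mem_group hW.good _ y.2)) hg
  have hzt : t * z = z * t := by
    calc t * z = g⁻¹ * (g * t * g⁻¹ * Φ y) * g := by rw [hzdef]; group
      _ = z * t := by rw [hcomm, hzdef]; group
  have hσy : σ (Φ y) = Φ y := by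
    refine Units.ext (Matrix.ext fun i j => ?_)
    show algebraMap F K _ ^ p ^ (f : ℕ) = _
    rw [← map_pow, ← hqf, ← hq, FiniteField.pow_card]
    rfl
  have hσz : n * σ z * n⁻¹ = z := by
    rw [hzdef, map_mul, map_mul, map_inv, hσy, hσg]
    group
  obtain ⟨w, hm, hwz, hfix⟩ := exists_weyl_of_commute hW h hreg hzG hzt
  -- the Weyl element commutes with the word
  have hσm : σ z ∈ D.monomialSubgroup K := by
    have hz' : σ z = n⁻¹ * (n * σ z * n⁻¹) * n := by group
    rw [hσz] at hz'
    rw [hz']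
    exact mul_mem (mul_mem (inv_mem (nWord_mem hW K ω)) hm) (nWord_mem hW K ω)
  have hσw : weylHom hW h ⟨σ z, hσm⟩ = w := by
    refine weylHom_eq hW h fun r => ?_
    have hmon := monBy_weylHom hW h ⟨z, hm⟩
    rw [hwz] at hmon
    obtain ⟨e, he1, he2⟩ := hmon r
    refine ⟨e ^ q, fun s => ?_, fun s => ?_⟩
    · obtain ⟨s₀, hs₀⟩ := (show ∃ s₀ : K, iterateFrobenius K p (f : ℕ) s₀ = s from by
        obtain ⟨s₀, hs₀⟩ := IsAlgClosed.exists_pow_nat_eq s (n := p ^ (f : ℕ)) (pow_pos hp.pos _)
        exact ⟨s₀, hs₀⟩)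
      have := congrArg σ (he1 s₀)
      rw [map_mul, map_mul, map_inv] at this
      rw [← hs₀]
      simp only [σ, frobGL, X_map, map_mul] at this ⊢
      rw [this]
      congr 1
      rw [hqf]; simp [iterateFrobenius_def]
    · obtain ⟨s₀, hs₀⟩ := (show ∃ s₀ : K, iterateFrobenius K p (f : ℕ) s₀ = s from by
        obtain ⟨s₀, hs₀⟩ := IsAlgClosed.exists_pow_nat_eq s (n := p ^ (f : ℕ)) (pow_pos hp.pos _)
        exact ⟨s₀, hs₀⟩)
      have := congrArg σ (he2 s₀)
      rw [map_mul, map_mul, map_inv] at this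
      rw [← hs₀]
      simp only [σ, frobGL, X_map, map_mul] at this ⊢
      rw [this]
      congr 1
      rw [hqf]; simp [iterateFrobenius_def]
  have hwπ : h.rootPerm (M.toCoxeterSystem.wordProd ω) = π := by
    simp only [π, piP, CoxeterSystem.wordProd, map_list_prod, List.map_map]
    refine congrArg List.prod (List.map_congr_left fun i _ => ?_)
    simp [wPerm_eq_rootPerm hW h]
  have hcom : ∀ (j : ℕ) (r : Root D), h.rootPerm w ((π ^ j) r) = (π ^ j) (h.rootPerm w r) := by
    have e1 : (⟨z, hm⟩ : ↥(D.monomialSubgroup K)) =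
        ⟨n, nWord_mem hW K ω⟩ * ⟨σ z, hσm⟩ * (⟨n, nWord_mem hW K ω⟩)⁻¹ := Subtype.ext hσz.symm
    have e2 := congrArg (weylHom hW h) e1
    rw [map_mul, map_mul, map_inv, hwz, hσw, weylHom_nWord, eq_mul_inv_iff_mul_eq] at e2
    have e3 : Commute (h.rootPerm w) π := by
      rw [← hwπ]
      show h.rootPerm w * _ = _ * h.rootPerm w
      rw [← map_mul, e2, map_mul]
    intro j r
    exact Equiv.ext_iff.1 (e3.pow_right j).eq r
  -- so it is a power of the word, hence trivial
  obtain ⟨x, hx, hxn, j, hj, hxj⟩ := hT.exists_rep hW (h.rootPerm w (alphaR hT))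
  obtain ⟨L, hL⟩ := exists_linear hW h w
  have hlin : ∀ (r : Root D) (k : Fin D.rank), D.cartan k (h.rootPerm w r) =
      ∑ i : Fin D.rank, cd T r i * D.cartan k ((π ^ (i : ℕ)) ((π ^ j) ⟨x.1, hxn⟩)) := by
    intro r k
    have e : (fun k : Fin D.rank => D.cartan k r) = ∑ i : Fin D.rank,
        cd T r i • fun k : Fin D.rank => D.cartan k ((π ^ (i : ℕ)) (alphaR hT)) := by
      funext k
      simp [hT.cartan_eq hW r k, π]
    have := congrFun (hL r) k
    rw [this, e, map_sum, Finset.sum_apply]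
    refine Finset.sum_congr rfl fun i _ => ?_
    rw [map_zsmul, ← hL, Pi.smul_apply, smul_eq_mul, hcom, hxj]
  obtain ⟨j', hjj'⟩ : ∃ j', π ^ j' * π ^ j = 1 := ⟨T.ord - j, by
    rw [← pow_add, Nat.sub_add_cancel hj.le]; exact piP_pow_ord hW hT⟩
  obtain ⟨L', hL'⟩ := exists_linear hW h (M.toCoxeterSystem.wordProd ω ^ j')
  have hxa : x.1 = T.alpha := hT.rep_eq_alpha hW hx hxn
    (fun r => (π ^ j') (h.rootPerm w r)) fun r k => by
      have e : (fun k : Fin D.rank => D.cartan k (h.rootPerm w r)) = ∑ i : Fin D.rank,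
          cd T r i • fun k : Fin D.rank => D.cartan k ((π ^ (i : ℕ)) ((π ^ j) ⟨x.1, hxn⟩)) := by
        funext k
        simp [hlin r k]
      have h1 := congrFun (hL' (h.rootPerm w r)) k
      simp only [map_pow, hwπ] at h1
      show D.cartan k ((π ^ j') (h.rootPerm w r)) = _
      rw [h1, e, map_sum, Finset.sum_apply]
      refine Finset.sum_congr rfl fun i _ => ?_
      have h2 := hL' ((π ^ (i : ℕ)) ((π ^ j) ⟨x.1, hxn⟩))
      simp only [map_pow, hwπ] at h2
      rw [map_zsmul, ← h2, Pi.smul_apply, smul_eq_mul]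
      congr 2
      rw [← Equiv.Perm.mul_apply, ← Equiv.Perm.mul_apply, ← pow_add, add_comm, pow_add, mul_assoc,
        hjj', mul_one]
  have hxα : (⟨x.1, hxn⟩ : Root D) = alphaR hT := Fin.ext hxa
  rw [hxα] at hxj hlin
  have hj0 : j = 0 := by
    by_contra hj0
    refine not_dvd_pow_sub_one hW hT (q : ℤ) hbq hj hj0 ?_
    have h1 := hfix (alphaR hT)
    rw [← hxj, hva, hval, ← mul_inv_eq_one] at h1
    rw [show a⁻¹ = a ^ (-1 : ℤ) by simp, ← zpow_add, hzpow, ← sub_eq_add_neg] at h1
    have h2 := fval_pow_modEq hW hT (q : ℤ) j (alphaR hT)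
    rw [halpha, mul_one] at h2
    have := dvd_sub h1 h2
    rwa [show fval T D (q : ℤ) ((π ^ j) (alphaR hT)) - 1 -
      (fval T D (q : ℤ) ((π ^ j) (alphaR hT)) - (q : ℤ) ^ j) = (q : ℤ) ^ j - 1 by ring] at this
  subst hj0
  have hw1 : w = 1 := by
    refine h.rootPerm_injective ?_
    rw [map_one]
    refine Equiv.ext fun r => hT.cartan_injective hW fun k => ?_
    rw [hlin r k]
    simpa [π] using (hT.cartan_eq hW r k).symm
  have hzd : z ∈ D.diagonalSubgroup K := by
    have : (⟨z, hm⟩ : ↥(D.monomialSubgroup K)) ∈ (weylHom hW h).ker := hwz.trans hw1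
    rw [ker_weylHom] at this
    exact this
  rw [diagonalSubgroup_eq_range hW] at hzd
  obtain ⟨d, hd⟩ := hzd
  change torC D d = z at hd
  rw [← hd] at hσz
  have hdq := (hconj d).2 hσz
  set b := torVal d (Sum.inr (alphaR hT) : D.Idx)
  have hdi : ∀ i : ℕ, torVal d (Sum.inr ((π ^ i) (alphaR hT)) : D.Idx) = b ^ q ^ i := by
    intro i
    induction i with
    | zero => simp [b]
    | succ i ih => rw [pow_succ', Equiv.Perm.mul_apply, hdq, ih, ← pow_mul, ← pow_succ]
  have hdval : ∀ r : Root D, torVal d (Sum.inr r) = b ^ fval T D (q : ℤ) r := by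
    intro r
    rw [torVal_eq hW hT, fval]
    induction (Finset.univ : Finset (Fin D.rank)) using Finset.cons_induction with
    | empty => simp
    | cons i S hi ih =>
      rw [Finset.prod_cons, Finset.sum_cons, zpow_add, ih, hdi, ← zpow_natCast, ← zpow_mul,
        Nat.cast_pow, mul_comm ((q : ℤ) ^ (i : ℕ))]
  have hbN : b ^ N = 1 := by
    have hlast : D.rank - 1 < D.rank := by have := hT.word_facts.2.2.1; omega
    set r := (π ^ (D.rank - 1)) (alphaR hT)
    have h1 := hdq r
    have h2 : cd T r (D.rank - 1) = 1 := by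
      have := hT.cd_pow_alpha hW ⟨_, hlast⟩ ⟨_, hlast⟩
      simpa [r, π] using this
    rw [hdval, hdval, ← zpow_natCast, ← zpow_mul, fval_piP hW hT, h2, ← mul_inv_eq_one,
      ← zpow_sub] at h1
    rw [← zpow_natCast, hN, ← inv_eq_one, ← zpow_neg, ← h1]
    congr 1
    ring
  haveI : NeZero N := ⟨hN0⟩
  obtain ⟨m, hm'⟩ := (Subgroup.mem_zpowers_iff.1 (show b ∈ Subgroup.zpowers a by
    rw [ha.zpowers_eq]; exact hbN))
  have hd' : d = fun k => c k ^ m := by
    funext k
    rw [eq_prod_torVal hW hT d k]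
    conv_rhs => rw [eq_prod_torVal hW hT c k, ← Finset.prod_zpow]
    refine Finset.prod_congr rfl fun i _ => ?_
    rw [hdval, hval, ← hm', ← zpow_mul, ← zpow_mul, ← zpow_mul, ← zpow_mul]
    congr 1
    ring
  refine Subgroup.mem_zpowers_iff.2 ⟨m, hΦ ?_⟩
  rw [map_zpow, show Φ X₀ = g * t * g⁻¹ from hx₀e,
    show (g * t * g⁻¹) ^ m = g * t ^ m * g⁻¹ from conj_zpow, hcpow, ← hd', hd]
  rw [hzdef]
  group

end CfsgLib.LangTorus
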