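import Cfsg.Agent.LangTorus.GoodE8
import Cfsg.Agent.LangTorus.Main

/-!
The certificate of a cyclic torus of E8 (generated table, checked by the kernel).
-/

set_option autoImplicit false
set_option maxHeartbeats 8000000

namespace CfsgLib.LangTorus

open Cfsg.Lie

/-- The certificate. -/
def certE8 : Cert where
  word := [0, 1, 2, 3, 4, 5, 6, 7]
  perm := [15, 0, 1, 2, 3, 4, 7, 14, 16, 17, 18, 19, 20, 5, 8, 21, 22, 23, 24, 25, 6, 36, 37, 38, 39, 9, 40, 41, 42, 10, 43, 44, 11, 45, 12, 13, 78, 79, 80, 26, 81, 82, 27, 83, 28, 29, 84, 85, 30, 86, 31, 32, 87, 33, 34, 35, 99, 100, 46, 101, 47, 48, 102, 49, 50, 51, 103, 52, 53, 54, 55, 162, 88, 89, 90, 91, 92, 104, 105, 106, 56, 107, 57, 58, 108, 59, 60, 61, 109, 62, 63, 64, 65, 141, 71, 72, 73, 74, 75, 163, 93, 94, 95, 96,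 97, 169, 110, 111, 112, 113, 170, 114, 115, 116, 171, 117, 118, 172, 119, 173, 66, 120, 67, 121, 122, 68, 123, 124, 125, 69, 126, 127, 128, 129, 70, 142, 143, 144, 145, 146, 76, 164, 165, 166, 167, 168, 98, 174, 175, 176, 177, 130, 178, 179, 180, 131, 181, 182, 132, 183, 133, 134, 135, 147, 148, 149, 150, 151, 77, 184, 185, 186, 187, 136, 188, 189, 190, 137, 191, 192, 138, 193, 139, 140, 204, 205, 206, 152, 207, 208, 153, 209, 154, 155, 210, 211, 156, 212, 157, 158, 213, 159, 160, 161, 226, 227, 194, 228, 195, 196, 229, 197, 198, 199, 230, 200, 201, 202, 203, 233, 214, 215, 216, 217, 218, 231, 234, 219, 220, 221, 222, 223, 225, 232, 235, 236, 237, 238, 239, 224]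
  ord := 30
  alpha := 120
  coords := [[-1, -1, -1, 0, 1, 2, 2, 1],
    [0, -1, -1, 0, 1, 2, 2, 1],
    [-1, -1, 0, 1, 2, 2, 1, 0],
    [0, 0, 0, 1, 1, 1, 1, 1],
    [0, 0, 1, 1, 1, 1, 1, 0],
    [0, 1, 1, 1, 1, 1, 0, 0],
    [0, 0, 0, 1, 1, 1, 1, 0],
    [0, 0, 0, 0, 1, 1, 1, 1],
    [0, -1, -1, 0, 1, 1, 2, 1],
    [0, 0, -1, 0, 1, 1, 1, 1],
    [0, 0, 0, 0, 1, 1, 1, 0],
    [1, 1, 0, 0, 0, 0, 1, 1],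
    [0, 1, 1, 1, 1, 0, 0, 0],
    [1, 1, 1, 1, 1, 0, 0, 0],
    [-1, -1, 0, 1, 1, 2, 1, 0],
    [-1, -2, -1, 0, 1, 2, 2, 1],
    [-1, -1, -1, 0, 1, 2, 1, 1],
    [-1, -1, 0, 0, 1, 2, 1, 0],
    [0, 0, 0, 0, 0, 1, 1, 1],
    [-1, 0, 1, 1, 1, 1, 0, 0],
    [0, 0, 1, 1, 1, 1, 0, 0],
    [-1, -2, -2, 0, 1, 2, 2, 1],
    [-1, -2, -1, 0, 1, 2, 2, 0],
    [0, -1, -1, 0, 0, 1, 2, 1],
    [-1, -1, 0, 1, 1, 1, 1, 0],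
    [0, -1, 0, 1, 1, 1, 1, 0],
    [-1, -1, -1, 0, 1, 2, 1, 0],
    [0, 0, -1, 0, 0, 1, 1, 1],
    [-1, 0, 0, 1, 1, 1, 0, 0],
    [0, 0, 0, 1, 1, 1, 0, 0],
    [0, 0, 0, 0, 0, 1, 1, 0],
    [-1, 0, 1, 1, 1, 1, 0, -1],
    [0, 0, 1, 1, 1, 1, 0, -1],
    [0, 1, 1, 1, 0, 0, 0, 0],
    [1, 1, 1, 1, 0, 0, 0, 0],
    [0, 1, 2, 2, 1, 0, -1, -1],
    [-1, -2, -2, -1, 1, 2, 2, 1],
    [0, -1, -2, -1, 0, 1, 2, 2],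
    [-1, -1, -1, 0, 1, 1, 1, 1],
    [0, -1, -1, 0, 1, 1, 1, 1],
    [0, -1, -1, -1, 0, 1, 2, 1],
    [-1, -1, 0, 0, 1, 1, 1, 0],
    [0, -1, 0, 0, 1, 1, 1, 0],
    [0, 0, 0, 0, 0, 0, 1, 1],
    [1, 0, 0, 0, 0, 0, 1, 1],
    [0, 0, 1, 1, 1, 0, 0, 0],
    [0, 0, -1, -1, 0, 1, 1, 1],
    [-1, 0, 0, 0, 1, 1, 0, 0],
    [0, 0, 0, 0, 1, 1, 0, 0],
    [0, 1, 0, 0, 0, 0, 0, 1],
    [1, 1, 0, 0, 0, 0, 0, 1],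
    [0, 1, 1, 1, 1, 0, -1, 0],
    [0, 1, 1, 0, 0, 0, 0, 0],
    [1, 1, 1, 0, 0, 0, 0, 0],
    [0, 1, 2, 1, 1, 0, -1, -1],
    [1, 2, 2, 1, 0, -1, -1, 0],
    [0, -1, -2, -1, 0, 1, 2, 1],
    [-1, -1, -1, 0, 1, 1, 1, 0],
    [0, -1, -1, 0, 1, 1, 1, 0],
    [0, 0, -1, 0, 0, 0, 1, 1],
    [1, 0, -1, 0, 0, 0, 1, 1],
    [0, 0, 0, 1, 1, 0, 0, 0],
    [0, 0, 0, 0, 0, 0, 1, 0],
    [1, 0, 0, 0, 0, 0, 1, 0],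
    [0, 0, 1, 1, 1, 0, 0, -1],
    [1, 1, 1, 1, 0, -1, 0, 0],
    [0, 1, 0, 0, 0, 0, 0, 0],
    [1, 1, 0, 0, 0, 0, 0, 0],
    [0, 1, 1, 1, 1, 0, -1, -1],
    [1, 2, 1, 1, 0, -1, -1, 0],
    [1, 2, 2, 1, 0, -1, -1, -1],
    [0, 0, -1, -1, 0, 0, 1, 1],
    [1, 0, -1, -1, 0, 0, 1, 1],
    [0, 0, 0, 0, 1, 0, 0, 0],
    [1, 1, 0, 0, 0, -1, 0, 1],
    [1, 1, 1, 0, 0, -1, 0, 0],
    [1, 2, 1, 0, 0, -1, -1, 0],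
    [1, 1, 0, 0, 0, -1, 0, 0],
    [-1, -2, -2, -1, 0, 2, 2, 1],
    [-2, -2, -1, 0, 1, 2, 1, 0],
    [-1, -2, -1, 0, 1, 2, 1, 0],
    [-1, -1, -1, 0, 0, 1, 1, 1],
    [0, -1, -1, 0, 0, 1, 1, 1],
    [-1, -1, 0, 1, 1, 1, 0, 0],
    [-1, -1, 0, 0, 0, 1, 1, 0],
    [0, -1, 0, 0, 0, 1, 1, 0],
    [-1, -1, 1, 1, 1, 1, 0, -1],
    [0, 0, 1, 1, 0, 0, 0, 0],
    [-1, 0, 0, 0, 0, 1, 0, 0],
    [0, 0, 0, 0, 0, 1, 0, 0],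
    [-1, 0, 1, 1, 1, 1, -1, -1],
    [0, 1, 1, 1, 0, 0, -1, 0],
    [0, 1, 2, 1, 0, 0, -1, -1],
    [-1, -1, -1, 0, 0, 1, 1, 0],
    [0, -1, -1, 0, 0, 1, 1, 0],
    [-1, -1, 0, 1, 1, 1, 0, -1],
    [0, 0, 0, 1, 0, 0, 0, 0],
    [0, 0, 1, 1, 0, 0, 0, -1],
    [0, 1, 1, 1, 0, 0, -1, -1],
    [-1, -1, -1, -1, 0, 1, 1, 1],
    [0, -1, -1, -1, 0, 1, 1, 1],
    [-1, -1, 0, 0, 1, 1, 0, 0],
    [0, 0, 0, 0, 0, 0, 0, 1],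
    [0, 0, 1, 0, 0, 0, 0, 0],
    [0, 1, 1, 0, 0, 0, -1, 0],
    [-1, -2, -2, -1, 0, 1, 2, 1],
    [0, -2, -2, -1, 0, 1, 2, 1],
    [-1, -2, -1, 0, 1, 1, 1, 0],
    [0, -1, -1, 0, 0, 0, 1, 1],
    [0, -1, 0, 0, 0, 0, 1, 0],
    [-1, -1, -2, -1, 0, 1, 1, 1],
    [0, -1, -2, -1, 0, 1, 1, 1],
    [-1, -1, -1, 0, 1, 1, 0, 0],
    [0, 0, -1, 0, 0, 0, 0, 1],
    [-1, -1, -1, -1, 0, 1, 1, 0],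
    [0, -1, -1, -1, 0, 1, 1, 0],
    [-1, -1, 0, 0, 1, 1, 0, -1],
    [0, 0, -1, -1, -1, 0, 1, 1],
    [1, 0, -1, -1, -1, 0, 1, 1],
    [-1, 0, 0, 0, 0, 0, 0, 0],
    [1, 0, 0, 0, 0, 0, 0, 0],
    [-1, 0, 1, 1, 1, 0, -1, -1],
    [0, 0, 1, 1, 1, 0, -1, -1],
    [1, 1, 0, 0, -1, -1, 0, 1],
    [0, 1, 1, 1, 0, -1, -1, 0],
    [1, 1, 1, 1, 0, -1, -1, 0],
    [0, 0, 1, 0, 0, 0, 0, -1],
    [1, 1, 1, 0, -1, -1, 0, 0],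
    [0, 1, 2, 1, 0, -1, -1, -1],
    [1, 1, 2, 1, 0, -1, -1, -1],
    [0, 1, 0, 0, 0, 0, -1, 0],
    [0, 1, 1, 0, 0, 0, -1, -1],
    [1, 2, 1, 0, -1, -1, -1, 0],
    [0, 2, 2, 1, 0, -1, -2, -1],
    [1, 2, 2, 1, 0, -1, -2, -1],
    [0, -1, -1, 0, 0, 0, 1, 0],
    [0, 0, -1, 0, 0, 0, 0, 0],
    [0, 0, 0, 0, 0, 0, 0, -1],
    [1, 1, 0, 0, -1, -1, 0, 0],
    [0, 1, 1, 1, 0, -1, -1, -1],
    [1, 1, 1, 1, 0, -1, -1, -1],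
    [0, -1, -1, -1, 0, 0, 1, 1],
    [0, 0, -1, -1, 0, 0, 0, 1],
    [0, 0, 0, -1, 0, 0, 0, 0],
    [1, 1, 0, -1, -1, -1, 0, 1],
    [0, 1, 1, 0, 0, -1, -1, 0],
    [1, 1, 1, 0, 0, -1, -1, 0],
    [0, -1, -2, -1, 0, 0, 1, 1],
    [0, -1, -1, -1, 0, 0, 1, 0],
    [1, 0, -1, -1, -1, -1, 1, 1],
    [0, 0, 0, 0, 0, -1, 0, 0],
    [1, 0, 0, 0, 0, -1, 0, 0],
    [0, 0, -1, -1, 0, 0, 0, 0],
    [1, 1, -1, -1, -1, -1, 0, 1],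
    [0, 1, 0, 0, 0, -1, -1, 0],
    [1, 1, 0, 0, 0, -1, -1, 0],
    [1, 1, 0, -1, -1, -1, 0, 0],
    [0, 1, 1, 0, 0, -1, -1, -1],
    [1, 1, 1, 0, 0, -1, -1, -1],
    [1, 2, 1, 0, -1, -2, -1, 0],
    [2, 2, 1, 0, -1, -2, -1, 0],
    [1, 2, 2, 1, 0, -2, -2, -1],
    [-1, -1, 0, 0, 0, 1, 0, 0],
    [-1, -2, -1, 0, 0, 1, 1, 0],
    [-1, -1, -1, 0, 0, 1, 0, 0],
    [-1, -1, 0, 0, 0, 1, 0, -1],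
    [0, 0, 0, 0, -1, 0, 0, 0],
    [-1, 0, 1, 1, 0, 0, -1, -1],
    [0, 0, 1, 1, 0, 0, -1, -1],
    [-1, -2, -2, -1, 0, 1, 1, 1],
    [-1, -2, -1, -1, 0, 1, 1, 0],
    [0, -1, -1, -1, -1, 0, 1, 1],
    [-1, -1, 0, 0, 0, 0, 0, 0],
    [0, -1, 0, 0, 0, 0, 0, 0],
    [-1, -1, -1, -1, 0, 1, 0, 0],
    [0, 0, -1, -1, -1, 0, 0, 1],
    [-1, 0, 0, 0, 0, 0, -1, 0],
    [0, 0, 0, 0, 0, 0, -1, 0],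
    [0, 0, 0, -1, -1, 0, 0, 0],
    [-1, 0, 1, 0, 0, 0, -1, -1],
    [0, 0, 1, 0, 0, 0, -1, -1],
    [0, 1, 1, 0, -1, -1, -1, 0],
    [1, 1, 1, 0, -1, -1, -1, 0],
    [0, 1, 2, 1, 0, -1, -2, -1],
    [-1, -2, -2, -1, 0, 1, 1, 0],
    [0, -1, -2, -1, -1, 0, 1, 1],
    [-1, -1, -1, 0, 0, 0, 0, 0],
    [0, -1, -1, 0, 0, 0, 0, 0],
    [0, -1, -1, -1, -1, 0, 1, 0],
    [-1, -1, 0, 0, 0, 0, 0, -1],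
    [0, -1, 0, 0, 0, 0, 0, -1],
    [0, 0, 0, 0, -1, -1, 0, 0],
    [1, 0, 0, 0, -1, -1, 0, 0],
    [0, 0, 1, 1, 0, -1, -1, -1],
    [0, 0, -1, -1, -1, 0, 0, 0],
    [-1, 0, 0, 0, 0, 0, -1, -1],
    [0, 0, 0, 0, 0, 0, -1, -1],
    [0, 1, 0, 0, -1, -1, -1, 0],
    [1, 1, 0, 0, -1, -1, -1, 0],
    [0, 1, 1, 1, 0, -1, -2, -1],
    [0, 1, 1, 0, -1, -1, -1, -1],
    [1, 1, 1, 0, -1, -1, -1, -1],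
    [0, 1, 2, 1, 0, -1, -2, -2],
    [1, 2, 2, 1, -1, -2, -2, -1],
    [0, -1, -2, -2, -1, 0, 1, 1],
    [-1, -1, -1, -1, 0, 0, 0, 0],
    [0, -1, -1, -1, 0, 0, 0, 0],
    [0, 0, -1, -1, -1, -1, 0, 1],
    [1, 0, -1, -1, -1, -1, 0, 1],
    [0, 0, 0, 0, 0, -1, -1, 0],
    [0, 0, 0, -1, -1, -1, 0, 0],
    [1, 0, 0, -1, -1, -1, 0, 0],
    [0, 0, 1, 0, 0, -1, -1, -1],
    [1, 1, 1, 0, -1, -2, -1, 0],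
    [0, 1, 0, -1, -1, -1, -1, 0],
    [1, 1, 0, -1, -1, -1, -1, 0],
    [0, 1, 1, 0, 0, -1, -2, -1],
    [1, 2, 1, 0, -1, -2, -2, 0],
    [1, 2, 2, 0, -1, -2, -2, -1],
    [0, 0, -1, -1, -1, -1, 0, 0],
    [1, 0, -1, -1, -1, -1, 0, 0],
    [0, 0, 0, 0, 0, -1, -1, -1],
    [1, 1, 0, 0, -1, -2, -1, 0],
    [1, 1, 1, 0, -1, -2, -1, -1],
    [1, 2, 1, 0, -1, -2, -2, -1],
    [1, 1, 0, -1, -1, -2, -1, 0],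
    [-1, -1, -1, -1, -1, 0, 0, 0],
    [0, -1, -1, -1, -1, 0, 0, 0],
    [-1, -1, 0, 0, 0, 0, -1, -1],
    [0, 0, 0, 0, -1, -1, -1, 0],
    [0, 0, 1, 0, -1, -1, -1, -1],
    [0, 1, 1, 0, -1, -1, -2, -1],
    [0, 0, 0, 0, -1, -1, -1, -1],
    [0, 0, 0, -1, -1, -1, -1, 0],
    [0, -1, -1, -1, -1, -1, 0, 0],
    [0, 0, -1, -1, -1, -1, -1, 0],
    [0, 0, 0, -1, -1, -1, -1, -1],
    [1, 1, 0, -1, -2, -2, -1, 0],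
    [0, 1, 1, 0, -1, -2, -2, -1],
    [1, 1, 1, 0, -1, -2, -2, -1]]
  binv := [[0, 1, 1, 2, 2, 2, 1, 1], [0, 1, 1, 3, 3, 3, 2, 1], [0, 0, 0, 1, 2, 2, 2, 1], [-1, -2, -2, -3, -2, -1, 0, 0], [-2, -3, -4, -6, -5, -4, -2, -1], [-2, -4, -5, -8, -7, -6, -4, -2], [-2, -3, -4, -7, -6, -5, -4, -2], [-1, -1, -2, -3, -3, -2, -2, -1]]
  pol := [1, 1, 0, -1, -1, -1, 0, 1]
  bound := 5
  reps := [(120, [1, 0, 0, 0, 0, 0, 0, 0], [0, 0, 0, 0, 0, 0, 0], 1),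
    (30, [-1, -1, 1, 1, 1, 0, 0, -2], [1, -1, 1, 0, 0, 2, 0], 1),
    (49, [0, 0, 1, 0, 0, -1, 0, 0], [1, -1, 1, -1, 1, 0, 0], 1),
    (10, [-2, 0, 1, 1, 1, 1, -2, -1], [1, -1, 1, 0, 2, 1, 0], 1),
    (44, [0, 0, 1, 0, -1, 0, 0, 0], [1, -1, 0, 1, 0, 0, 0], 1),
    (6, [-1, -1, 0, 1, 2, 1, -1, -2], [1, -1, 1, 1, 1, 2, 0], 1),
    (11, [2, 0, 0, -1, -1, -1, 0, 2], [-1, -1, 1, -1, 1, 0, -2], 1),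
    (3, [0, 0, 1, -1, 0, 0, 0, 0], [1, -1, 1, 0, 0, 0, 0], 1)]
  wits := [(30, 0), (49, 0), (10, 0), (44, 0), (6, 0), (11, 0), (3, 0)]
  pows := [([], [], 0),
    ([0, 1, 1, 0, -1, -2, -2, -1], [1, 0, 0, 0, 0, 0, 0], 1),
    ([0, 1, 0, 0, -1, -1, -1, 0], [1, 0, 0, 0, 0, 0, 0], 1),
    ([-1, 0, 1, 0, 0, 0, -1, -1], [0, 0, 1, 0, 0, 0, 0], 1),
    ([0, 1, 0, -1, -1, 0, 0, 0], [1, 0, 0, 0, 0, 0, 0], 1),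
    ([0, 0, 0, 0, 0, -1, 0, 0], [1, -1, 1, 0, 0, 0, 0], 1),
    ([-4, 0, 2, 1, 0, 0, -3, -2], [1, -1, 3, -1, 1, 2, 0], 5),
    ([0, -1, 1, -1, 1, -1, 1, -1], [1, -2, 3, -3, 3, -2, 1], 1),
    ([1, 1, -1, -1, -1, -1, 1, 1], [3, 0, -1, 0, -2, 0, 1], 1),
    ([-1, 0, 0, 1, 0, 0, -1, 0], [1, -1, 0, 0, 0, 1, 0], 1),
    ([-1, 0, 0, 0, 0, -1, 0, 0], [1, -1, 1, 0, 0, 0, 0], 3),
    ([-3, -1, 2, 1, 1, 2, -2, -2], [-2, -2, 3, -2, 0, 2, 0], 1),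
    ([-2, 0, 1, -2, 0, 0, 1, -1], [3, -3, 2, -1, 2, -2, 1], 5),
    ([-1, -1, 0, 2, 1, -1, -1, 0], [-1, -2, 1, 2, 0, -1, 0], 1),
    ([-1, -1, 1, 0, 1, 0, 0, -1], [1, -1, 0, -1, 0, 0, 1], 1),
    ([-1, 0, 0, 0, 0, 0, 0, 0], [0, 0, 0, 0, 0, 0, 0], 2),
    ([0, 1, -1, 0, -1, 0, 0, 1], [1, 0, 0, 0, 0, 0, 0], 1),
    ([0, 1, 0, -2, -1, 1, 1, 0], [1, 0, 0, 0, 0, 0, 0], 1),
    ([-3, 0, -1, 2, 0, 0, -1, 1], [2, -2, 1, 0, 0, 0, 0], 5),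
    ([2, 1, -2, -1, -1, -2, 2, 2], [3, -2, 0, 2, 0, 0, 0], 1),
    ([-2, 0, 0, 0, 0, 1, 0, 0], [1, -1, 1, 0, 0, 0, 0], 3),
    ([0, 0, 0, -1, 0, 0, 1, 0], [1, -1, 1, -1, 1, 0, 0], 1),
    ([-2, -1, 1, 1, 1, 1, -1, -1], [-1, 0, 1, -1, 1, 0, -1], 1),
    ([-1, 1, -1, 1, -1, 1, -1, 1], [1, 0, -1, 2, -2, 2, -1], 1),
    ([-1, 0, -2, -1, 0, 0, 3, 2], [3, -3, 0, 2, 0, 3, 2], 5),
    ([-1, 0, 0, 0, 0, 1, 0, 0], [1, -1, 1, 0, 0, 0, 0], 1),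
    ([-1, -1, 0, 1, 1, 0, 0, 0], [0, 0, 1, 0, 0, 0, 0], 1),
    ([0, 0, -1, 0, 0, 0, 1, 1], [1, -1, 0, 1, 0, 0, 1], 1),
    ([-1, -1, 0, 0, 1, 1, 1, 0], [1, 0, 1, 0, 0, -1, 0], 1),
    ([-1, -1, -1, 0, 1, 2, 2, 1], [-1, -1, 0, 1, 2, 2, 1], 1)]

theorem certE8_word : chkWord chevE8 certE8 = true := by decide +kernel
theorem certE8_lin : chkLin chevE8 certE8 = true := by decide +kernel
theorem certE8_step : chkStep chevE8 certE8 = true := by decide +kernel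
theorem certE8_base : chkBase chevE8 certE8 = true := by decide +kernel
theorem certE8_inv : chkInv chevE8 certE8 = true := by decide +kernel
theorem certE8_reps : chkReps chevE8 certE8 = true := by decide +kernel
theorem certE8_wits : chkWits chevE8 certE8 = true := by decide +kernel
theorem certE8_pows : chkPows chevE8 certE8 = true := by decide +kernel
theorem chevE8_inj : chkInj chevE8 = true := by decide +kernel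

theorem certE8_good : certE8.Good chevE8 :=
  ⟨certE8_word, certE8_lin, certE8_step, certE8_base, certE8_inv, certE8_reps, certE8_wits, chevE8_inj, certE8_pows⟩

end CfsgLib.LangTorus
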