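import Cfsg.Agent.Chevalley.GoodE8
import Cfsg.Agent.Chevalley.CommDataB
import Cfsg.Agent.Chevalley.UnipotentMain
import Cfsg.Agent.Chevalley.WeylChecks
import Cfsg.Agent.Chevalley.Reflection
import Cfsg.Agent.Weyl.RootE8

/-!
The table checks for type E8 alone.
-/

set_option autoImplicit false

namespace CfsgLib.LangTorus

open Cfsg.Lie CfsgLib.Chevalley

theorem commE8 : chkComm chevE8 = true := chevE8_comm
theorem primE8 : chkPrimitive chevE8 = true := by decide +kernel
theorem reflE8_0 : chkRefl chevE8 0 = true := by decide +kernel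
theorem reflE8_1 : chkRefl chevE8 1 = true := by decide +kernel
theorem reflE8_2 : chkRefl chevE8 2 = true := by decide +kernel
theorem reflE8_3 : chkRefl chevE8 3 = true := by decide +kernel
theorem reflE8_4 : chkRefl chevE8 4 = true := by decide +kernel
theorem reflE8_5 : chkRefl chevE8 5 = true := by decide +kernel
theorem reflE8_6 : chkRefl chevE8 6 = true := by decide +kernel
theorem reflE8_7 : chkRefl chevE8 7 = true := by decide +kernel
theorem reflAllE8 : chkReflAll chevE8 = true := by
  rw [chkReflAll, show List.range chevE8.rank = [0, 1, 2, 3, 4, 5, 6, 7] from by decide +kernel]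
  simp [reflE8_0, reflE8_1, reflE8_2, reflE8_3, reflE8_4, reflE8_5, reflE8_6, reflE8_7]
theorem descentE8 : chkDescent chevE8 = true := by decide +kernel

theorem goodWE8 : GoodWeyl chevE8 :=
  ⟨⟨⟨good_chevE8, commE8⟩, primE8⟩, reflAllE8, descentE8⟩

end CfsgLib.LangTorus
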