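import Cfsg.Agent.LangTorus.Regular
import Cfsg.Agent.LangChev.Fibres
import Cfsg.Agent.LinearOrders.Basic

/-!
# The fixed points of the Frobenius on the group over a larger field
-/

set_option autoImplicit false

namespace CfsgLib.LangTorus

open Cfsg.Lie CfsgLib.Chevalley CfsgLib.ChevTorus CfsgLib.LangChev
open scoped MatrixGroups

variable {D : ChevalleyDatum} {C : Weyl.Cert D.rank} {M : CoxeterMatrix (Fin D.rank)}
  {R : Weyl.RootTable}

/-- The product of the `n_i` along a word. -/
def nWord (hW : GoodWeyl D) (R : Type*) [CommRing R] (ω : List (Fin D.rank)) : GL D.Idx R :=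
  (ω.map fun i => nR hW i).prod

theorem nWord_map (hW : GoodWeyl D) {R S : Type*} [CommRing R] [CommRing S] (f : R →+* S)
    (ω : List (Fin D.rank)) :
    Matrix.GeneralLinearGroup.map f (nWord hW R ω) = nWord hW S ω := by
  rw [nWord, map_list_prod, List.map_map]
  exact congrArg List.prod (List.map_congr_left fun i _ => nR_map hW f i)

theorem nWord_mem (hW : GoodWeyl D) (F : Type*) [Field F] (ω : List (Fin D.rank)) :
    nWord hW F ω ∈ D.monomialSubgroup F :=
  Subgroup.list_prod_mem _ fun x hx => by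
    obtain ⟨i, -, rfl⟩ := List.mem_map.1 hx
    exact nR_mem_monomial hW i

theorem nWord_cons (hW : GoodWeyl D) (F : Type*) [CommRing F] (i : Fin D.rank)
    (ω : List (Fin D.rank)) : nWord hW F (i :: ω) = nR hW i * nWord hW F ω := by
  simp [nWord]

theorem weylHom_nWord (hW : GoodWeyl D) (h : Weyl.RootGood C M R) (F : Type*) [Field F] :
    ∀ (ω : List (Fin D.rank)), weylHom hW h ⟨nWord hW F ω, nWord_mem hW F ω⟩ =
      M.toCoxeterSystem.wordProd ω
  | [] => map_one _
  | i :: ω => by
    have e : (⟨nWord hW F (i :: ω), nWord_mem hW F _⟩ : ↥(D.monomialSubgroup F)) =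
        ⟨nR hW i, nR_mem_monomial hW i⟩ * ⟨nWord hW F ω, nWord_mem hW F ω⟩ :=
      Subtype.ext (nWord_cons hW F i ω)
    rw [e, map_mul, weylHom_nR, weylHom_nWord hW h F ω, CoxeterSystem.wordProd_cons,
      CoxeterMatrix.toCoxeterSystem_simple]

/-- A ring map of fields carries the subgroup of a set of roots into itself. -/
theorem map_rootGen (hD : Good D) {F F' : Type*} [Field F] [Field F'] (φ : F →+* F')
    {S : Set (Root D)} {u : GL D.Idx F} (hu : u ∈ rootGen hD F S) :
    Matrix.GeneralLinearGroup.map φ u ∈ rootGen hD F' S := by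
  suffices H : rootGen hD F S ≤ (rootGen hD F' S).comap (Matrix.GeneralLinearGroup.map φ) from H hu
  refine rootGen_le hD fun r hr t => ?_
  show Matrix.GeneralLinearGroup.map φ (X hD r t) ∈ rootGen hD F' S
  rw [X_map]
  exact X_mem_rootGen hD hr _

theorem map_torC {F F' : Type*} [Field F] [Field F'] (φ : F →+* F') (c : Fin D.rank → Fˣ) :
    Matrix.GeneralLinearGroup.map φ (torC D c) = torC D fun k => Units.map (φ : F →* F') (c k) := by
  rw [← torR_eq_torC, torR_map, torR_eq_torC]

variable {K : Type*} [Field K] (p f : ℕ) [ExpChar K p] {F : Type*} [Field F] [Fintype F]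
  [Algebra F K]

/-- If the torus is parametrised injectively, a fixed element of the group over `K` comes from
the group over `F`. -/
theorem exists_descend (hW : GoodWeyl D) (h : Weyl.RootGood C M R)
    (hinj : Function.Injective (torC D : (Fin D.rank → Kˣ) → GL D.Idx K))
    (hq : Fintype.card F = p ^ f) {y : GL D.Idx K} (hy : y ∈ D.group K)
    (hfix : frobGL K p f y = y) :
    ∃ y₀ ∈ D.group F, Matrix.GeneralLinearGroup.map (algebraMap F K) y₀ = y := by
  obtain ⟨⟨w, b, u⟩, ⟨hb, hu, e⟩, huniq⟩ := existsUnique_form hW h hy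
  dsimp only at hb hu e huniq
  obtain ⟨ω, hred, hω⟩ := M.toCoxeterSystem.exists_isReduced w
  obtain ⟨k, hk, ek⟩ := exists_eq_nW_mul (F := K) hW h ⟨nWord hW K ω, nWord_mem hW K ω⟩
  rw [weylHom_nWord, ← hω] at ek
  change nWord hW K ω = _ at ek
  set n' := nWord hW K ω
  set b' := b * (nW hW h K w * k * (nW hW h K w)⁻¹)⁻¹ with hb'def
  have hkc : nW hW h K w * k * (nW hW h K w)⁻¹ ∈ D.borelSubgroup K :=
    diag_le_borel D ((Subgroup.mem_normalizer_iff.1
      (monomial_le_normalizer hW (nW_mem hW h w)) k).1 hk)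
  have hb' : b' ∈ D.borelSubgroup K := mul_mem hb (inv_mem hkc)
  have e' : b' * n' * u = y := by rw [hb'def, ek, ← e]; group
  obtain ⟨v, hv, d, hd, hvd⟩ := (mem_borel_iff hW).1 hb'
  rw [posUnipotent_eq hW.good] at hv
  obtain ⟨t, rfl⟩ := exists_sideR hW.toGoodComm false hv
  rw [diagonalSubgroup_eq_range hW] at hd
  obtain ⟨c, rfl⟩ := hd
  change sideR hW.good false t * torC D c = b' at hvd
  -- Frobenius fixes each factor
  set φ := iterateFrobenius K p f
  have hn' : frobGL K p f n' = n' := nWord_map hW φ ω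
  have hσb' : frobGL K p f b' = sideR hW.good false (φ ∘ t) *
      torC D (fun j => Units.map (φ : K →* K) (c j)) := by
    rw [← hvd, map_mul]
    exact congrArg₂ (· * ·) (sideR_map _ _ _ _) (map_torC φ c)
  have hσb : frobGL K p f b' ∈ D.borelSubgroup K := by
    rw [hσb']
    refine mul_mem (pos_le_borel D ?_) (diag_le_borel D (torC_mem_diag hW _))
    rw [posUnipotent_eq hW.good]
    exact sideR_mem _ _ _
  have huσ : frobGL K p f u ∈ uW hW h K w := map_rootGen hW.good φ hu
  have h3 := huniq (w, frobGL K p f b' * (nW hW h K w * k * (nW hW h K w)⁻¹), frobGL K p f u)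
    ⟨mul_mem hσb hkc, huσ, by
      have h4 := congrArg (frobGL K p f) e'
      rw [map_mul, map_mul, hn', hfix, ek] at h4
      rw [← h4]; group⟩
  simp only [Prod.mk.injEq, true_and] at h3
  obtain ⟨h5, hu1⟩ := h3
  have h6 : frobGL K p f b' = b' := by
    rw [hb'def] at *
    exact eq_mul_inv_of_mul_eq h5
  rw [hσb'] at h6
  have hroot : ∀ z : K, φ z = z → ∃ z₀ : F, algebraMap F K z₀ = z := fun z hz =>
    CfsgLib.LinearOrders.exists_algebraMap_eq z (by rw [hq, ← iterateFrobenius_def]; exact hz)
  have h7 : (sideR hW.good false t)⁻¹ * sideR hW.good false (φ ∘ t) ∈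
      D.posUnipotent K ⊓ D.diagonalSubgroup K := by
    refine Subgroup.mem_inf.2 ⟨?_, ?_⟩
    · rw [posUnipotent_eq hW.good]
      exact mul_mem (inv_mem (sideR_mem _ _ _)) (sideR_mem _ _ _)
    · have h8 := h6.trans hvd.symm
      rw [← eq_mul_inv_iff_mul_eq] at h8
      rw [h8, mul_assoc, inv_mul_cancel_left]
      exact mul_mem (torC_mem_diag hW _) (inv_mem (torC_mem_diag hW _))
  rw [pos_inf_diag hW, Subgroup.mem_bot, inv_mul_eq_one] at h7
  have ht := sideR_injective hW.toGoodUni false h7.symm
  rw [← h7, ← hvd, mul_left_cancel_iff] at h6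
  have hc := hinj h6
  choose t₀ ht₀ using fun j => hroot (t j) (congrFun ht j)
  have hc' : ∀ j, ∃ c₀ : Fˣ, Units.map (algebraMap F K : F →* K) c₀ = c j := by
    intro j
    obtain ⟨z, hz⟩ := hroot (c j : K) (congrArg Units.val (congrFun hc j))
    exact ⟨Units.mk0 z (fun h0 => (c j).ne_zero (by rw [← hz, h0, map_zero])), Units.ext hz⟩
  choose c₀ hc₀ using hc'
  have hupos := uW_le_pos hW h w hu
  rw [posUnipotent_eq hW.good] at hupos
  obtain ⟨s, rfl⟩ := exists_sideR hW.toGoodComm false hupos
  rw [show frobGL K p f (sideR hW.good false s) = sideR hW.good false (φ ∘ s) from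
    sideR_map _ _ _ _] at hu1
  have hs := sideR_injective hW.toGoodUni false hu1
  choose s₀ hs₀ using fun j => hroot (s j) (congrFun hs j)
  refine ⟨sideR hW.good false t₀ * torC D c₀ * nWord hW F ω * sideR hW.good false s₀,
    mul_mem (mul_mem (mul_mem (sideR_mem_group _ _ _) ?_) (monomial_le_group hW (nWord_mem hW F ω)))
      (sideR_mem_group _ _ _), ?_⟩
  · exact diag_le_group hW (torC_mem_diag hW c₀)
  · rw [map_mul, map_mul, map_mul, sideR_map, sideR_map, map_torC, nWord_map, ← e', ← hvd]
    rw [show algebraMap F K ∘ t₀ = t from funext ht₀, show algebraMap F K ∘ s₀ = s from funext hs₀,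
      show (fun j => Units.map (algebraMap F K : F →* K) (c₀ j)) = c from funext hc₀]

end CfsgLib.LangTorus
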