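import Cfsg.Agent.ChevTorus.Order
import Mathlib.LinearAlgebra.FreeModule.Finite.CardQuotient
import Mathlib.RingTheory.RootsOfUnity.AlgebraicallyClosed
import Mathlib.FieldTheory.IsAlgClosed.Basic

/-!
# The kernel of a monomial map on a torus over an algebraically closed field
-/

set_option autoImplicit false
set_option linter.style.haveILetI false

namespace CfsgLib.TorusWeyl

open CfsgLib.ChevTorus Matrix

variable {ι : Type*} [Fintype ι] [DecidableEq ι]

/-- The index of the row lattice of a matrix is the absolute value of its determinant. -/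
theorem index_range_vecMul {B : Matrix ι ι ℤ} (hB : B.det ≠ 0) :
    (LinearMap.range (Matrix.toLin' Bᵀ)).toAddSubgroup.index = B.det.natAbs := by
  have hdet : LinearMap.det (Matrix.toLin' Bᵀ) = B.det := by
    rw [LinearMap.det_toLin', Matrix.det_transpose]
  have hinj : Function.Injective (Matrix.toLin' Bᵀ) := by
    intro x y h
    simp only [Matrix.toLin'_apply] at h
    have h1 := congrArg (fun z => (Bᵀ).adjugate *ᵥ z) h
    simp only [Matrix.mulVec_mulVec, Matrix.adjugate_mul, Matrix.det_transpose, Matrix.smul_mulVec,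
      Matrix.one_mulVec] at h1
    funext i
    exact mul_left_cancel₀ hB (congrFun h1 i)
  have h := Submodule.natAbs_det_equiv (LinearMap.range (Matrix.toLin' Bᵀ))
    (LinearEquiv.ofInjective _ hinj)
  rw [← hdet]
  refine Eq.trans ?_ (Eq.trans h.symm ?_)
  · rfl
  · congr 2

variable {K : Type*} [Field K] [IsAlgClosed K]

/-- The kernel of a monomial map on the torus has `|det|` elements. -/
theorem natCard_ker_monAct {B : Matrix ι ι ℤ} (hB : ((B.det.natAbs : ℕ) : K) ≠ 0) :
    Nat.card (monAct (G := Kˣ) B).ker = B.det.natAbs := by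
  classical
  set N := B.det.natAbs with hN
  haveI : NeZero (N : K) := ⟨hB⟩
  have hdet : B.det ≠ 0 := by
    intro h0
    exact hB (by rw [hN, h0]; simp)
  have hN0 : N ≠ 0 := Int.natAbs_ne_zero.2 hdet
  haveI : NeZero N := ⟨hN0⟩
  obtain ⟨ζ₀, hζ₀⟩ := HasEnoughRootsOfUnity.exists_primitiveRoot K N
  set ζ : Kˣ := (hζ₀.isUnit hN0).unit
  have hζ : IsPrimitiveRoot ζ N := IsPrimitiveRoot.coe_units_iff.1 hζ₀
  have hz : ∀ m : ℤ, ζ ^ m = 1 ↔ B.det ∣ m := fun m => by
    rw [hζ.zpow_eq_one_iff_dvd, hN, Int.natAbs_dvd]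
  -- exponents
  have hact : ∀ (A : Matrix ι ι ℤ) (m : ι → ℤ),
      monAct A (fun j => ζ ^ m j) = fun j => ζ ^ (Aᵀ *ᵥ m) j := by
    intro A m
    funext j
    simp only [monAct, MonoidHom.coe_mk, OneHom.coe_mk, ← _root_.zpow_mul, Matrix.mulVec, dotProduct,
      Matrix.transpose_apply]
    induction (Finset.univ : Finset ι) using Finset.cons_induction with
    | empty => simp
    | cons b S hb ih => rw [Finset.prod_cons, Finset.sum_cons, _root_.zpow_add, ih, mul_comm (A b j)]
  let Ψ : Multiplicative (ι → ℤ) →* (ι → Kˣ) :=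
    { toFun := fun y => fun j => ζ ^ ((B.adjugate)ᵀ *ᵥ y.toAdd) j
      map_one' := by funext j; simp
      map_mul' := fun x y => by funext j; simp [Matrix.mulVec_add, _root_.zpow_add] }
  have hadj : (Bᵀ) * (B.adjugate)ᵀ = B.det • (1 : Matrix ι ι ℤ) := by
    rw [← Matrix.transpose_mul, Matrix.adjugate_mul, Matrix.transpose_smul, Matrix.transpose_one]
  have hadj' : (B.adjugate)ᵀ * Bᵀ = B.det • (1 : Matrix ι ι ℤ) := by
    rw [← Matrix.transpose_mul, Matrix.mul_adjugate, Matrix.transpose_smul, Matrix.transpose_one]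
  have hrange : Ψ.range = (monAct (G := Kˣ) B).ker := by
    refine le_antisymm ?_ ?_
    · rintro _ ⟨y, rfl⟩
      show monAct B _ = 1
      rw [show Ψ y = fun j => ζ ^ ((B.adjugate)ᵀ *ᵥ y.toAdd) j from rfl, hact,
        Matrix.mulVec_mulVec, hadj, Matrix.smul_mulVec, Matrix.one_mulVec]
      funext j
      exact (hz _).2 (dvd_mul_right _ _)
    · intro c hc
      have hc' : monAct B c = 1 := hc
      have hpow : ∀ j, c j ^ N = 1 := by
        intro j
        have h1 : monAct (B * B.adjugate) c = 1 := by rw [monAct_mul, hc', map_one]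
        rw [Matrix.mul_adjugate] at h1
        have h2 := congrFun h1 j
        simp only [monAct, MonoidHom.coe_mk, OneHom.coe_mk, Pi.one_apply] at h2
        rw [Finset.prod_eq_single j (fun i _ hi => by simp [Matrix.one_apply_ne hi])
          (by simp)] at h2
        simp only [Matrix.smul_apply, Matrix.one_apply_eq, smul_eq_mul, mul_one] at h2
        rcases Int.natAbs_eq B.det with e | e <;> rw [e, ← hN] at h2
        · simpa using h2
        · simpa using h2
      have hexp : ∀ j, ∃ m : ℤ, ζ ^ m = c j := fun j =>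
        Subgroup.mem_zpowers_iff.1 (show c j ∈ Subgroup.zpowers ζ by
          rw [hζ.zpowers_eq]; exact hpow j)
      choose m hm using hexp
      have hcm : c = fun j => ζ ^ m j := funext fun j => (hm j).symm
      rw [hcm, hact] at hc'
      have hdiv : ∀ j, B.det ∣ (Bᵀ *ᵥ m) j := fun j => (hz _).1 (congrFun hc' j)
      choose y hy using hdiv
      refine ⟨Multiplicative.ofAdd y, ?_⟩
      rw [hcm]
      funext j
      show ζ ^ ((B.adjugate)ᵀ *ᵥ y) j = ζ ^ m j
      congr 1
      have h1 : Bᵀ *ᵥ m = B.det • y := funext hy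
      have h2 := congrArg (fun z => (B.adjugate)ᵀ *ᵥ z) h1
      simp only [Matrix.mulVec_mulVec, hadj', Matrix.smul_mulVec, Matrix.one_mulVec,
        Matrix.mulVec_smul] at h2
      exact (mul_left_cancel₀ hdet (congrFun h2 j)).symm
  have hker : Ψ.ker = AddSubgroup.toSubgroup (LinearMap.range (Matrix.toLin' Bᵀ)).toAddSubgroup := by
    ext y
    show Ψ y = 1 ↔ y.toAdd ∈ LinearMap.range (Matrix.toLin' Bᵀ)
    constructor
    · intro h
      have hdiv : ∀ j, B.det ∣ ((B.adjugate)ᵀ *ᵥ y.toAdd) j := fun j => (hz _).1 (congrFun h j)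
      choose x hx using hdiv
      refine ⟨x, ?_⟩
      have h1 : (B.adjugate)ᵀ *ᵥ y.toAdd = B.det • x := funext hx
      have h2 := congrArg (fun z => Bᵀ *ᵥ z) h1
      simp only [Matrix.mulVec_mulVec, hadj, Matrix.smul_mulVec, Matrix.one_mulVec,
        Matrix.mulVec_smul] at h2
      rw [Matrix.toLin'_apply]
      exact funext fun j => (mul_left_cancel₀ hdet (congrFun h2 j)).symm
    · rintro ⟨x, hx⟩
      rw [Matrix.toLin'_apply] at hx
      funext j
      show ζ ^ ((B.adjugate)ᵀ *ᵥ y.toAdd) j = 1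
      rw [← hx, Matrix.mulVec_mulVec, hadj', Matrix.smul_mulVec, Matrix.one_mulVec]
      exact (hz _).2 (dvd_mul_right _ _)
  have h1 : Ψ.ker.index = Nat.card Ψ.range := Subgroup.index_ker Ψ
  rw [hrange, hker, AddSubgroup.index_toSubgroup, index_range_vecMul hdet] at h1
  exact h1.symm

end CfsgLib.TorusWeyl
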