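import Cfsg.Agent.ChevTorus.Order
import Cfsg.Agent.LangTorus.Descent
import Cfsg.Agent.LangChev.Basic
import Mathlib.FieldTheory.IsAlgClosed.AlgebraicClosure
import Mathlib.FieldTheory.Finite.Basic

/-!
# The Weyl group on the torus

The action of monomial elements on `torC`, and torus elements conjugate in the group are conjugate
under the Weyl group.
-/

set_option autoImplicit false
set_option linter.style.haveILetI false
set_option linter.unusedSectionVars false

namespace CfsgLib.TorusWeyl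

open Cfsg.Lie CfsgLib.Chevalley CfsgLib.ChevTorus CfsgLib.LangChev CfsgLib.LangTorus
open scoped MatrixGroups Matrix

variable {D : ChevalleyDatum} {C : Weyl.Cert D.rank} {M : CoxeterMatrix (Fin D.rank)}
  {R : Weyl.RootTable}

/-- The matrices of the representation on weights. -/
noncomputable def repMat (h : Weyl.RootGood C M R) :
    M.Group →* Matrix (Fin D.rank) (Fin D.rank) ℤ :=
  ((LinearMap.toMatrixAlgEquiv' (R := ℤ) (n := Fin D.rank)).toAlgHom.toMonoidHom).comp h.good.rep

theorem repMat_apply (h : Weyl.RootGood C M R) (w : M.Group) (k j : Fin D.rank) :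
    repMat h w k j = h.good.rep w (Pi.single j 1) k := by
  simp [repMat, LinearMap.toMatrixAlgEquiv'_apply]

theorem repMat_mulVec (h : Weyl.RootGood C M R) (w : M.Group) (u : Fin D.rank → ℤ) :
    repMat h w *ᵥ u = h.good.rep w u := by
  show Matrix.toLinAlgEquiv' (LinearMap.toMatrixAlgEquiv' (h.good.rep w)) u = _
  rw [Matrix.toLinAlgEquiv'_toMatrixAlgEquiv']

/-- The matrices of the action on the torus. -/
noncomputable def wMat (h : Weyl.RootGood C M R) (w : M.Group) :
    Matrix (Fin D.rank) (Fin D.rank) ℤ := repMat h w⁻¹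

theorem wMat_mul (h : Weyl.RootGood C M R) (u v : M.Group) :
    wMat h (u * v) = wMat h v * wMat h u := by
  rw [wMat, mul_inv_rev, map_mul, wMat, wMat]

theorem wMat_one (h : Weyl.RootGood C M R) : wMat h (1 : M.Group) = 1 := by
  rw [wMat, inv_one, map_one]

theorem corootAt_rootPerm (h : Weyl.RootGood C M R) (w : M.Group) (r : Root D) (j : Fin D.rank) :
    Weyl.corootAt D (h.rootPerm w r) j = ∑ k : Fin D.rank, Weyl.corootAt D r k * wMat h w k j := by
  rw [← Weyl.RootGood.pair_simple_coroot, h.pair_symm]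
  simp only [Weyl.rootPair, wMat, repMat_apply]
  exact Finset.sum_congr rfl fun k _ => mul_comm _ _

variable {K : Type*} [Field K]

theorem hT_rootPerm (h : Weyl.RootGood C M R) (w : M.Group) (r : Root D) (t : Kˣ) :
    hT K (h.rootPerm w r) t =
      torC D (monAct (wMat h w) fun k : Fin D.rank => t ^ Weyl.corootAt D r k) := by
  rw [hT_eq_torC]
  congr 1
  funext j
  show t ^ Weyl.corootAt D (h.rootPerm w r) j =
    ∏ k : Fin D.rank, (t ^ Weyl.corootAt D r k) ^ wMat h w k j
  rw [corootAt_rootPerm]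
  simp only [← zpow_mul]
  induction (Finset.univ : Finset (Fin D.rank)) using Finset.cons_induction with
  | empty => simp
  | cons b S hb ih => rw [Finset.prod_cons, Finset.sum_cons, zpow_add, ih]

theorem nWord_conj_hT (hW : GoodWeyl D) (h : Weyl.RootGood C M R) :
    ∀ (ω : List (Fin D.rank)) (r : Root D) (t : Kˣ),
      nWord hW K ω * hT K r t * (nWord hW K ω)⁻¹ =
        hT K (h.rootPerm (M.toCoxeterSystem.wordProd ω) r) t
  | [], r, t => by simp [nWord]
  | i :: ω, r, t => by
    rw [nWord_cons, CoxeterSystem.wordProd_cons, map_mul, Equiv.Perm.mul_apply,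
      CoxeterMatrix.toCoxeterSystem_simple, ← wPerm_eq_rootPerm hW h, ← nR_conj_hT hW,
      ← nWord_conj_hT hW h ω r t]
    group

/-- A monomial element acts on the torus through the Weyl group. -/
theorem mon_conj_torC (hW : GoodWeyl D) (h : Weyl.RootGood C M R)
    (n : ↥(D.monomialSubgroup K)) (c : Fin D.rank → Kˣ) :
    (n : GL D.Idx K) * torC D c * (n : GL D.Idx K)⁻¹ =
      torC D (monAct (wMat h (weylHom hW h n)) c) := by
  obtain ⟨ω, -, hω⟩ := M.toCoxeterSystem.exists_isReduced (weylHom hW h n)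
  have hdiag : (nWord hW K ω)⁻¹ * (n : GL D.Idx K) ∈ D.diagonalSubgroup K := by
    have : (⟨nWord hW K ω, nWord_mem hW K ω⟩ : ↥(D.monomialSubgroup K))⁻¹ * n ∈
        (weylHom hW h).ker := by
      rw [MonoidHom.mem_ker, map_mul, map_inv, weylHom_nWord, ← hω, inv_mul_cancel]
    rw [ker_weylHom] at this
    exact this
  have e1 : (n : GL D.Idx K) * torC D c * (n : GL D.Idx K)⁻¹ =
      nWord hW K ω * torC D c * (nWord hW K ω)⁻¹ := by
    have h1 := diag_comm hW hdiag (torC_mem_diag hW c)
    calc (n : GL D.Idx K) * torC D c * (n : GL D.Idx K)⁻¹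
        = nWord hW K ω * ((nWord hW K ω)⁻¹ * (n : GL D.Idx K) * torC D c) *
            ((nWord hW K ω)⁻¹ * (n : GL D.Idx K))⁻¹ * (nWord hW K ω)⁻¹ := by group
      _ = _ := by rw [h1]; group
  rw [e1]
  have e2 : ∀ k : Fin D.rank, nWord hW K ω * hT K (pRoot hW k) (c k) * (nWord hW K ω)⁻¹ =
      torHom D K (monAct (wMat h (weylHom hW h n)) (Pi.mulSingle k (c k))) := by
    intro k
    rw [nWord_conj_hT hW h, ← hω, hT_rootPerm h]
    show torC D _ = torC D _
    congr 2
    funext j
    show c k ^ (D.coroot.getD (pRoot hW k) #[]).getD j 0 = _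
    rw [hW.good.coroot_genR]
    rcases eq_or_ne k j with rfl | hkj
    · simp [sgn]
    · simp [hkj, Ne.symm hkj]
  show (MulAut.conj (nWord hW K ω)) (torC D c) =
    torHom D K (monAct (wMat h (weylHom hW h n)) c)
  rw [torC_eq_prod hW, map_list_prod, List.map_map]
  conv_rhs => rw [← Finset.univ_prod_mulSingle c, Fin.prod_univ_def, map_list_prod, map_list_prod,
    List.map_map, List.map_map]
  exact congrArg List.prod (List.map_congr_left fun k _ => e2 k)

/-- Torus elements conjugate in the group are conjugate under the Weyl group. -/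
theorem exists_weyl_of_conj (hW : GoodWeyl D) (h : Weyl.RootGood C M R)
    {c c' : Fin D.rank → Kˣ}
    (hinj : Function.Injective (torC D : (Fin D.rank → Kˣ) → GL D.Idx K))
    {g : GL D.Idx K} (hg : g ∈ D.group K) (he : g * torC D c = torC D c' * g) :
    ∃ w : M.Group, monAct (wMat h w) c = c' := by
  obtain ⟨⟨w, b, u⟩, ⟨hb, hu, e⟩, huniq⟩ := existsUnique_form hW h hg
  dsimp only at hb hu e huniq
  set n := nW hW h K w with hn
  set t := torC D c with ht
  set t' := torC D c' with ht'
  have htd : t ∈ D.diagonalSubgroup K := torC_mem_diag hW c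
  have htd' : t' ∈ D.diagonalSubgroup K := torC_mem_diag hW c'
  have hnN : n ∈ D.monomialSubgroup K := nW_mem hW h w
  set k := n * t⁻¹ * n⁻¹ with hkdef
  have hk : k ∈ D.diagonalSubgroup K :=
    (Subgroup.mem_normalizer_iff.1 (monomial_le_normalizer hW hnN) t⁻¹).1 (inv_mem htd)
  have hu' : t * u * t⁻¹ ∈ uW hW h K w := diag_conj_rootGen hW htd hu
  have hb' : t' * b * k ∈ D.borelSubgroup K :=
    mul_mem (mul_mem (diag_le_borel D htd') hb) (diag_le_borel D hk)
  have e' : t' * b * k * n * (t * u * t⁻¹) = g := by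
    calc _ = t' * (b * n * u) * t⁻¹ := by rw [hkdef]; group
      _ = g := by rw [e, ← he, mul_inv_cancel_right]
  have h3 := huniq (w, t' * b * k, t * u * t⁻¹) ⟨hb', hu', e'⟩
  simp only [Prod.mk.injEq, true_and] at h3
  obtain ⟨h1, -⟩ := h3
  obtain ⟨v, hv, d, hd, rfl⟩ := (mem_borel_iff hW).1 hb
  have hvU : t' * v * t'⁻¹ ∈ D.posUnipotent K :=
    (Subgroup.mem_normalizer_iff.1 (diag_le_normalizer_pos hW htd') v).1 hv
  have h4 : v⁻¹ * (t' * v * t'⁻¹) = d * (t' * d * k)⁻¹ := by
    calc v⁻¹ * (t' * v * t'⁻¹) = v⁻¹ * (t' * (v * d) * k) * (t' * d * k)⁻¹ := by group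
      _ = _ := by rw [h1]; group
  have h5 : d * (t' * d * k)⁻¹ = 1 := by
    have h8 : d * (t' * d * k)⁻¹ ∈ D.posUnipotent K ⊓ D.diagonalSubgroup K :=
      Subgroup.mem_inf.2 ⟨h4 ▸ mul_mem (inv_mem hv) hvU,
        mul_mem hd (inv_mem (mul_mem (mul_mem htd' hd) hk))⟩
    rw [pos_inf_diag hW] at h8
    exact Subgroup.mem_bot.1 h8
  rw [mul_inv_eq_one, diag_comm hW htd' hd, mul_assoc, left_eq_mul] at h5
  refine ⟨w, hinj ?_⟩
  have h6 := mon_conj_torC hW h ⟨n, hnN⟩ c
  rw [weylHom_nW hW h w hnN] at h6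
  rw [← h6, ← ht, ← ht']
  calc n * t * n⁻¹ = t' * k * (n * t * n⁻¹) := by rw [h5, one_mul]
    _ = t' := by rw [hkdef]; group

theorem finOrder_of_algebraic {F : Type*} [Field F] [Fintype F] [Algebra F K]
    [Algebra.IsAlgebraic F K] (x : Kˣ) : IsOfFinOrder x := by
  haveI : FiniteDimensional F (IntermediateField.adjoin F ({(x : K)} : Set K)) :=
    IntermediateField.adjoin.finiteDimensional
      (Algebra.IsAlgebraic.isAlgebraic (x : K)).isIntegral
  haveI : Finite (IntermediateField.adjoin F ({(x : K)} : Set K)) :=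
    Module.finite_of_finite F
  set L := IntermediateField.adjoin F ({(x : K)} : Set K)
  let y : L := ⟨(x : K), IntermediateField.mem_adjoin_simple_self F _⟩
  have hy : y ≠ 0 := fun h0 => x.ne_zero (congrArg Subtype.val h0)
  obtain ⟨m, hm, hm'⟩ := isOfFinOrder_iff_pow_eq_one.1 (isOfFinOrder_of_finite (Units.mk0 y hy))
  refine isOfFinOrder_iff_pow_eq_one.2 ⟨m, hm, Units.ext ?_⟩
  have h1 := congrArg (fun z : Lˣ => (((z : L) : K))) hm'
  simpa [y] using h1

/-- Units of a field of characteristic `p` have order prime to `p`. -/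
theorem orderOf_coprime (p : ℕ) [Fact p.Prime] [CharP K p] {x : Kˣ} (hx : IsOfFinOrder x) :
    (orderOf x).Coprime p := by
  have hp : p.Prime := Fact.out
  refine ((hp.coprime_iff_not_dvd).2 fun hdvd => ?_).symm
  obtain ⟨m, hm⟩ := hdvd
  have hm0 : m ≠ 0 := fun h0 => by
    rw [h0, mul_zero] at hm
    exact hx.orderOf_pos.ne' hm
  have h1 : (x ^ m) ^ p = 1 := by
    rw [← pow_mul, mul_comm, ← hm, pow_orderOf_eq_one]
  have h2 : (((x ^ m : Kˣ) : K) - 1) ^ p = 0 := by
    rw [sub_pow_char, one_pow, ← Units.val_pow_eq_pow_val, h1, Units.val_one, sub_self]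
  have h3 : x ^ m = 1 := Units.ext (sub_eq_zero.1 (eq_zero_of_pow_eq_zero h2))
  have h4 := Nat.le_of_dvd (Nat.pos_of_ne_zero hm0) (orderOf_dvd_of_pow_eq_one h3)
  rw [hm] at h4
  have h5 : 2 * m ≤ p * m := Nat.mul_le_mul_right m hp.two_le
  omega

end CfsgLib.TorusWeyl
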