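import Cfsg.Agent.LangTorus.GoodF4
import Cfsg.Agent.LangTorus.Main

/-!
The certificate of a cyclic torus of F4 (generated table, checked by the kernel).
-/

set_option autoImplicit false
set_option maxHeartbeats 8000000

namespace CfsgLib.LangTorus

open Cfsg.Lie

/-- The certificate. -/
def certF4 : Cert where
  word := [0, 3, 3, 3, 2, 0, 3, 1, 2, 0, 3, 1]
  perm := [6, 2, 26, 10, 1, 24, 17, 13, 3, 29, 20, 12, 7, 36, 19, 5, 32, 25, 14, 9, 39, 4, 0, 31, 16, 47, 43, 8, 38, 33, 22, 15, 42, 28, 11, 40, 35, 27, 18, 44, 34, 30, 23, 46, 37, 21, 45, 41]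
  ord := 8
  alpha := 27
  coords := [[-1, 1, 1, -1],
    [0, 1, 0, 1],
    [-1, 0, 1, 0],
    [0, 0, 1, 0],
    [1, 0, 1, 0],
    [0, -1, 2, -1],
    [1, -1, 1, 1],
    [-1, 1, 0, 0],
    [0, 1, 0, 0],
    [-1, 0, 1, -1],
    [0, 0, 0, 1],
    [0, 0, 1, -1],
    [1, 0, 0, 1],
    [0, -1, 1, 0],
    [1, -1, 1, 0],
    [-1, 2, -1, 0],
    [-2, 1, 0, -1],
    [-1, 1, -1, 1],
    [-1, 1, 0, -1],
    [0, 1, -1, 1],
    [-1, 0, 0, 0],
    [0, 1, 0, -1],
    [1, 1, -1, 1],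
    [-1, 0, 1, -2],
    [1, 0, -1, 2],
    [-1, -1, 1, -1],
    [0, -1, 0, 1],
    [1, 0, 0, 0],
    [0, -1, 1, -1],
    [1, -1, 0, 1],
    [1, -1, 1, -1],
    [2, -1, 0, 1],
    [1, -2, 1, 0],
    [-1, 1, -1, 0],
    [0, 1, -1, 0],
    [-1, 0, 0, -1],
    [0, 0, -1, 1],
    [0, 0, 0, -1],
    [1, 0, -1, 1],
    [0, -1, 0, 0],
    [1, -1, 0, 0],
    [-1, 1, -1, -1],
    [0, 1, -2, 1],
    [-1, 0, -1, 0],
    [0, 0, -1, 0],
    [1, 0, -1, 0],
    [0, -1, 0, -1],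
    [1, -1, -1, 1]]
  binv := [[0, 1, 1, 1], [0, -1, -2, -1], [-1, -1, -1, -1], [0, 0, 0, 1]]
  pol := [1, 0, 0, 0]
  bound := 2
  reps := [(27, [1, 0, 0, 0], [0, 0, 0], 1),
    (1, [0, -1, 0, -1], [2, 0, 1], 2),
    (7, [-1, -1, -1, -1], [1, 0, 0], 2),
    (9, [-1, -1, -1, 0], [0, -1, 0], 1),
    (0, [0, 0, -1, -1], [2, 0, -1], 2),
    (5, [0, -1, -2, -1], [2, 0, -1], 2)]
  wits := [(1, 0), (7, 0), (9, 0), (0, 0), (5, 0)]
  pows := [([], [], 0),
    ([-1, -1, -1, -1], [1, 0, 0], 2),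
    ([-1, 0, -1, 0], [1, 0, 0], 2),
    ([-1, -1, 1, -1], [1, -1, 1], 2),
    ([-1, 0, 0, 0], [0, 0, 0], 2),
    ([-1, 1, -1, 1], [1, 0, 0], 2),
    ([-1, 0, 1, 0], [1, 0, 0], 2),
    ([-1, 1, 1, 1], [1, 1, 1], 2)]

theorem certF4_word : chkWord chevF4 certF4 = true := by decide +kernel
theorem certF4_lin : chkLin chevF4 certF4 = true := by decide +kernel
theorem certF4_step : chkStep chevF4 certF4 = true := by decide +kernel
theorem certF4_base : chkBase chevF4 certF4 = true := by decide +kernel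
theorem certF4_inv : chkInv chevF4 certF4 = true := by decide +kernel
theorem certF4_reps : chkReps chevF4 certF4 = true := by decide +kernel
theorem certF4_wits : chkWits chevF4 certF4 = true := by decide +kernel
theorem certF4_pows : chkPows chevF4 certF4 = true := by decide +kernel
theorem chevF4_inj : chkInj chevF4 = true := by decide +kernel

theorem certF4_good : certF4.Good chevF4 :=
  ⟨certF4_word, certF4_lin, certF4_step, certF4_base, certF4_inv, certF4_reps, certF4_wits, chevF4_inj, certF4_pows⟩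

end CfsgLib.LangTorus
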