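import Cfsg.Agent.Chevalley.GoodF4
import Cfsg.Agent.Chevalley.CommChecks
import Cfsg.Agent.Chevalley.UnipotentMain
import Cfsg.Agent.Chevalley.WeylChecks
import Cfsg.Agent.Chevalley.Reflection
import Cfsg.Agent.Weyl.RootF4

/-!
The table checks for type F4 alone.
-/

set_option autoImplicit false

namespace CfsgLib.LangTorus

open Cfsg.Lie CfsgLib.Chevalley

theorem commF4 : chkComm chevF4 = true := by decide +kernel
theorem primF4 : chkPrimitive chevF4 = true := by decide +kernel
theorem reflF4_0 : chkRefl chevF4 0 = true := by decide +kernel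
theorem reflF4_1 : chkRefl chevF4 1 = true := by decide +kernel
theorem reflF4_2 : chkRefl chevF4 2 = true := by decide +kernel
theorem reflF4_3 : chkRefl chevF4 3 = true := by decide +kernel
theorem reflAllF4 : chkReflAll chevF4 = true := by
  rw [chkReflAll, show List.range chevF4.rank = [0, 1, 2, 3] from by decide +kernel]
  simp [reflF4_0, reflF4_1, reflF4_2, reflF4_3]
theorem descentF4 : chkDescent chevF4 = true := by decide +kernel

theorem goodWF4 : GoodWeyl chevF4 :=
  ⟨⟨⟨good_chevF4, commF4⟩, primF4⟩, reflAllF4, descentF4⟩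

end CfsgLib.LangTorus
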