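import Cfsg.Agent.LangChev.Param
import Cfsg.Agent.Chevalley.BruhatUnique

/-!
# The centraliser of a regular element of the torus is monomial
-/

set_option autoImplicit false

namespace CfsgLib.LangTorus

open Cfsg.Lie CfsgLib.Chevalley CfsgLib.ChevTorus CfsgLib.LangChev

variable {D : ChevalleyDatum} {F : Type*} [Field F]

theorem torC_mem_diag (hW : GoodWeyl D) (c : Fin D.rank → Fˣ) :
    torC D c ∈ D.diagonalSubgroup F := by
  rw [diagonalSubgroup_eq_range hW]
  exact ⟨c, rfl⟩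

theorem torC_conj_sideR (hD : Good D) (b : Bool) (c : Fin D.rank → Fˣ) (t : Fin (half D) → F) :
    torC D c * sideR hD b t * (torC D c)⁻¹ =
      sideR hD b fun j => (torVal c (Sum.inr (rootOf hD b (half D + j))) : F) * t j := by
  show (MulAut.conj (torC D c)) _ = _
  rw [sideR, map_list_prod, List.map_ofFn]
  refine congrArg List.prod (congrArg List.ofFn (funext fun j => ?_))
  exact torC_conj_X hD c _ _

/-- A regular element commutes with no nontrivial element of `U`. -/
theorem eq_one_of_commute_torC (hW : GoodWeyl D) {c : Fin D.rank → Fˣ}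
    (hc : ∀ r : Root D, torVal c (Sum.inr r) ≠ 1) {u : GL D.Idx F} (hu : u ∈ D.posUnipotent F)
    (he : torC D c * u = u * torC D c) : u = 1 := by
  rw [posUnipotent_eq hW.good] at hu
  obtain ⟨t, rfl⟩ := exists_sideR hW.toGoodComm false hu
  have h0 : t = 0 := by
    have e1 := torC_conj_sideR hW.good false c t
    rw [he, mul_inv_cancel_right] at e1
    funext j
    have e2 := congrFun (sideR_injective hW.toGoodUni false e1) j
    by_contra hne
    refine hc (rootOf hW.good false (half D + j)) (Units.ext (mul_right_cancel₀ hne ?_))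
    rw [Units.val_one, one_mul, ← e2]
  subst h0
  rw [sideR]
  exact List.prod_eq_one fun x hx => by
    obtain ⟨j, rfl⟩ := List.mem_ofFn.1 hx
    exact X_zero _ _

/-- An element of the group commuting with a regular element of the torus is monomial, and its
permutation of the roots fixes the values. -/
theorem exists_weyl_of_commute {C : Weyl.Cert D.rank} {M : CoxeterMatrix (Fin D.rank)}
    {R : Weyl.RootTable} (hW : GoodWeyl D) (h : Weyl.RootGood C M R) {c : Fin D.rank → Fˣ}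
    (hc : ∀ r : Root D, torVal c (Sum.inr r) ≠ 1) {g : GL D.Idx F} (hg : g ∈ D.group F)
    (he : torC D c * g = g * torC D c) :
    ∃ (w : M.Group) (hm : g ∈ D.monomialSubgroup F), weylHom hW h ⟨g, hm⟩ = w ∧
      ∀ r : Root D, torVal c (Sum.inr (h.rootPerm w r)) = torVal c (Sum.inr r) := by
  set t : GL D.Idx F := torC D c with ht
  have htd : t ∈ D.diagonalSubgroup F := torC_mem_diag hW c
  obtain ⟨⟨w, b, u⟩, ⟨hb, hu, e⟩, huniq⟩ := existsUnique_form hW h hg
  dsimp only at hb hu e huniq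
  set n := nW hW h F w with hn
  have hnN : n ∈ D.monomialSubgroup F := nW_mem hW h w
  set k := n⁻¹ * t * n * t⁻¹ with hkdef
  have hk : k ∈ D.diagonalSubgroup F :=
    mul_mem ((Subgroup.mem_normalizer_iff''.1 (monomial_le_normalizer hW hnN) t).1 htd) (inv_mem htd)
  have hnk : n * k * n⁻¹ ∈ D.diagonalSubgroup F :=
    (Subgroup.mem_normalizer_iff.1 (monomial_le_normalizer hW hnN) k).1 hk
  have hu' : t * u * t⁻¹ ∈ uW hW h F w := diag_conj_rootGen hW htd hu
  have hb' : t * b * t⁻¹ * (n * k * n⁻¹) ∈ D.borelSubgroup F :=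
    mul_mem (mul_mem (mul_mem (diag_le_borel D htd) hb) (inv_mem (diag_le_borel D htd)))
      (diag_le_borel D hnk)
  have e' : t * b * t⁻¹ * (n * k * n⁻¹) * n * (t * u * t⁻¹) = g := by
    rw [hkdef, show t * b * t⁻¹ * (n * (n⁻¹ * t * n * t⁻¹) * n⁻¹) * n * (t * u * t⁻¹) =
      t * (b * n * u) * t⁻¹ by group, e, he, mul_inv_cancel_right]
  have h3 := huniq (w, t * b * t⁻¹ * (n * k * n⁻¹), t * u * t⁻¹) ⟨hb', hu', e'⟩
  simp only [Prod.mk.injEq, true_and] at h3
  obtain ⟨h1, h2⟩ := h3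
  have hu1 : u = 1 := eq_one_of_commute_torC hW hc (uW_le_pos hW h w hu)
    (mul_inv_eq_iff_eq_mul.1 h2)
  obtain ⟨v, hv, d, hd, rfl⟩ := (mem_borel_iff hW).1 hb
  have hdt : t * d * t⁻¹ = d := by rw [diag_comm hW htd hd, mul_inv_cancel_right]
  have h4 : v⁻¹ * (t * v * t⁻¹) = d * (n * k * n⁻¹)⁻¹ * d⁻¹ := by
    have : t * v * t⁻¹ * (t * d * t⁻¹) * (n * k * n⁻¹) = v * d := by rw [← h1]; group
    rw [hdt] at this
    rw [show t * v * t⁻¹ = v * d * (n * k * n⁻¹)⁻¹ * d⁻¹ by rw [← this]; group]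
    group
  have hvU : t * v * t⁻¹ ∈ D.posUnipotent F :=
    (Subgroup.mem_normalizer_iff.1 (diag_le_normalizer_pos hW htd) v).1 hv
  have h5 : v⁻¹ * (t * v * t⁻¹) = 1 := by
    have h8 : v⁻¹ * (t * v * t⁻¹) ∈ D.posUnipotent F ⊓ D.diagonalSubgroup F :=
      Subgroup.mem_inf.2 ⟨mul_mem (inv_mem hv) hvU,
        h4 ▸ mul_mem (mul_mem hd (inv_mem hnk)) (inv_mem hd)⟩
    rw [pos_inf_diag hW] at h8
    exact Subgroup.mem_bot.1 h8
  have hv1 : v = 1 := eq_one_of_commute_torC hW hc hv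
    (mul_inv_eq_iff_eq_mul.1 (inv_mul_eq_one.1 h5).symm)
  have hk1 : k = 1 := by
    rw [h5] at h4
    have h6 : (n * k * n⁻¹)⁻¹ = 1 := by
      calc (n * k * n⁻¹)⁻¹ = d⁻¹ * (d * (n * k * n⁻¹)⁻¹ * d⁻¹) * d := by group
        _ = 1 := by rw [← h4]; group
    rw [inv_eq_one] at h6
    calc k = n⁻¹ * (n * k * n⁻¹) * n := by group
      _ = 1 := by rw [h6]; group
  have hnt : t * n = n * t := by
    calc t * n = n * k * t := by rw [hkdef]; group
      _ = n * t := by rw [hk1, mul_one]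
  have hπ : ∀ r : Root D, torVal c (Sum.inr (h.rootPerm w r)) = torVal c (Sum.inr r) := by
    intro r
    obtain ⟨s, hs⟩ := (monBy_nW (F := F) hW h w).conj_X r
    have e1 := torC_conj_X hW.good c (h.rootPerm w r) ((s : F) * 1)
    rw [← hs, ← ht, show t * (n * X hW.good r 1 * n⁻¹) * t⁻¹ =
      (t * n) * X hW.good r 1 * (t * n)⁻¹ by group, hnt,
      show n * t * X hW.good r 1 * (n * t)⁻¹ = n * (t * X hW.good r 1 * t⁻¹) * n⁻¹ by group,
      ht, torC_conj_X hW.good, hs] at e1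
    have e2 := congrArg (fun g : GL D.Idx F => (g : Matrix D.Idx D.Idx F)) e1
    obtain ⟨i, hi⟩ := hW.toGoodUni.exists_coroot_ne F (h.rootPerm w r)
    have e3 := congrFun (congrFun e2 (Sum.inl i)) (Sum.inr (h.rootPerm w r).rev)
    simp only [coe_X, xR_entry_coroot hW.good, if_pos, mul_one] at e3
    have e4 := mul_right_cancel₀ hi e3
    rw [mul_comm] at e4
    exact Units.ext (mul_right_cancel₀ s.ne_zero e4).symm
  have hg' : g = d * n := by rw [← e, hu1, hv1, one_mul, mul_one]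
  subst hg'
  have hdN := diag_le_monomial D hd
  refine ⟨w, mul_mem hdN hnN, ?_, hπ⟩
  show weylHom hW h (⟨d, hdN⟩ * ⟨n, hnN⟩) = w
  rw [map_mul, weylHom_nW hW h w hnN]
  have : (⟨d, hdN⟩ : ↥(D.monomialSubgroup F)) ∈ (weylHom hW h).ker := by
    rw [ker_weylHom]; exact hd
  rw [MonoidHom.mem_ker.1 this, one_mul]

end CfsgLib.LangTorus
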