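import Cfsg.Agent.LangTorus.Descent

/-!
# Certificates for cyclic tori
-/

set_option autoImplicit false

namespace CfsgLib.LangTorus

open Cfsg.Lie CfsgLib.Chevalley

/-- The data of a cyclic torus. -/
structure Cert where
  /-- the word of the Weyl element -/
  word : List ℕ
  /-- its permutation of the roots -/
  perm : List ℕ
  /-- its order -/
  ord : ℕ
  /-- a cyclic vector -/
  alpha : ℕ
  /-- the coordinates of every root on the conjugates of `alpha` -/
  coords : List (List ℤ)
  /-- the inverse of the matrix of those conjugates -/
  binv : List (List ℤ)
  /-- the coefficients of the characteristic polynomial, without the leading one -/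
  pol : List ℤ
  /-- a bound on the resultants -/
  bound : ℕ
  /-- for each orbit: representative, Bezout coefficients and resultant -/
  reps : List (ℕ × List ℤ × List ℤ × ℤ)
  /-- for each orbit other than the first: a root showing it is not the image of `alpha` -/
  wits : List (ℕ × ℕ)
  /-- Bezout data for the powers of `q` -/
  pows : List (List ℤ × List ℤ × ℤ)

variable (D : ChevalleyDatum) (T : Cert)

/-- The permutation of the roots. -/
def piN (s : ℕ) : ℕ := T.word.foldr (fun i x => reflT D i x) s

/-- Its iterates on a root. -/
def orbN (_D : ChevalleyDatum) (T : Cert) : ℕ → ℕ → ℕ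
  | 0, s => s
  | j + 1, s => T.perm.getD (orbN _D T j s) 0

/-- A coordinate. -/
def cd (r j : ℕ) : ℤ := (T.coords.getD r []).getD j 0

/-- A coefficient of the polynomial. -/
def pc (j : ℕ) : ℤ := T.pol.getD j 0

/-- An entry of the inverse matrix. -/
def bi (j k : ℕ) : ℤ := (T.binv.getD j []).getD k 0

def addL : List ℤ → List ℤ → List ℤ
  | [], b => b
  | a, [] => a
  | x :: a, y :: b => (x + y) :: addL a b

def mulL : List ℤ → List ℤ → List ℤ
  | [], _ => []
  | x :: a, b => addL (b.map (x * ·)) (0 :: mulL a b)

def evalL (q : ℤ) : List ℤ → ℤ
  | [] => 0
  | x :: a => x + q * evalL q a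

/-- `e A + P B = R`. -/
def bez (e A B : List ℤ) (R : ℤ) : Bool :=
  (match addL (mulL e A) (mulL (T.pol ++ [1]) B) with
     | [] => R == 0
     | x :: a => x == R && a.all (· == 0)) &&
    !(R == 0) && decide (R.natAbs ≤ T.bound)

def chkWord : Bool :=
  T.word.all (fun i => decide (i < D.rank)) && decide (T.alpha < D.nroots) &&
    decide (T.pol.length = D.rank) && decide (0 < D.rank) &&
    (List.range D.nroots).all fun r => decide (piN D T r = T.perm.getD r 0) &&
      decide (orbN D T T.ord r = r)

def chkLin : Bool :=
  (List.range D.nroots).all fun r => (List.range D.rank).all fun k =>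
    cartanT D k r == ((List.range D.rank).map fun j =>
      cd T r j * cartanT D k (orbN D T j T.alpha)).sum

def chkStep : Bool :=
  (List.range D.nroots).all fun r => (List.range D.rank).all fun j =>
    cd T (T.perm.getD r 0) j ==
      (if j = 0 then 0 else cd T r (j - 1)) - cd T r (D.rank - 1) * pc T j

def chkBase : Bool :=
  (List.range D.rank).all fun i => (List.range D.rank).all fun j =>
    cd T (orbN D T i T.alpha) j == if i = j then 1 else 0

def chkInv : Bool :=
  (List.range D.rank).all fun i => (List.range D.rank).all fun j =>
    (((List.range D.rank).map fun k => bi T i k * cartanT D k (orbN D T j T.alpha)).sum ==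
      if i = j then 1 else 0) &&
    (((List.range D.rank).map fun k => cartanT D i (orbN D T k T.alpha) * bi T k j).sum ==
      if i = j then 1 else 0)

def coordList (r : ℕ) : List ℤ := (List.range D.rank).map fun j => cd T r j

def chkReps : Bool :=
  T.reps.all (fun x => decide (x.1 < D.nroots) && bez T (coordList D T x.1) x.2.1 x.2.2.1 x.2.2.2) &&
    (List.range D.nroots).all fun r =>
      (List.range T.ord).any fun j => T.reps.any fun x => orbN D T j x.1 == r

def chkWits : Bool :=
  T.reps.all (fun x => x.1 == T.alpha || T.wits.any fun y => y.1 == x.1 &&
    decide (y.2 < D.nroots) &&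
    (List.range D.nroots).all fun s => (List.range D.rank).any fun k =>
      !(cartanT D k s == ((List.range D.rank).map fun j =>
        cd T y.2 j * cartanT D k (orbN D T j x.1)).sum))

def chkInj : Bool :=
  (List.range D.nroots).all fun r => (List.range D.nroots).all fun s =>
    r == s || (List.range D.rank).any fun k => !(cartanT D k r == cartanT D k s)

def chkPows : Bool :=
  (List.range T.ord).all fun j => j == 0 ||
    match T.pows.getD j ([], [], 0) with
    | (A, B, R) => bez T (addL (coordList D T (orbN D T j T.alpha)) [-1]) A B R

/-- All the checks. -/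
structure Cert.Good : Prop where
  word : chkWord D T = true
  lin : chkLin D T = true
  step : chkStep D T = true
  base : chkBase D T = true
  inv : chkInv D T = true
  reps : chkReps D T = true
  wits : chkWits D T = true
  inj : chkInj D = true
  pows : chkPows D T = true

end CfsgLib.LangTorus
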