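import Cfsg.Agent.LangTorus.Cert

/-!
# Reading a certificate
-/

set_option autoImplicit false

namespace CfsgLib.LangTorus

open Cfsg.Lie CfsgLib.Chevalley CfsgLib.ChevTorus

variable {D : ChevalleyDatum} {T : Cert}

theorem Cert.Good.word_facts (hT : T.Good D) :
    (∀ i ∈ T.word, i < D.rank) ∧ T.alpha < D.nroots ∧ 0 < D.rank ∧
      ∀ r < D.nroots, orbN D T T.ord r = r := by
  have h := hT.word
  simp only [chkWord, Bool.and_eq_true, List.all_eq_true, decide_eq_true_eq, List.mem_range] at h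
  exact ⟨h.1.1.1.1, h.1.1.1.2, h.1.2, fun r hr => (h.2 r hr).2⟩

theorem Cert.Good.perm_eq (hT : T.Good D) {r : ℕ} (hr : r < D.nroots) :
    piN D T r = T.perm.getD r 0 := by
  have h := hT.word
  simp only [chkWord, Bool.and_eq_true, List.all_eq_true, decide_eq_true_eq, List.mem_range] at h
  exact (h.2 r hr).1

/-- The word as a list of simple reflections. -/
def wordF (hT : T.Good D) : List (Fin D.rank) :=
  T.word.pmap (fun i hi => ⟨i, hi⟩) hT.word_facts.1

/-- The permutation of the roots. -/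
def piP (hW : GoodWeyl D) (hT : T.Good D) : Equiv.Perm (Root D) :=
  ((wordF hT).map (wPerm hW)).prod

theorem piP_val (hW : GoodWeyl D) (hT : T.Good D) (r : Root D) :
    (piP hW hT r : ℕ) = piN D T r := by
  have key : ∀ (L : List ℕ) (hL : ∀ i ∈ L, i < D.rank) (r : Root D),
      ((((L.pmap (fun i hi => (⟨i, hi⟩ : Fin D.rank)) hL).map (wPerm hW)).prod) r : ℕ) =
        L.foldr (fun i x => reflT D i x) r := by
    intro L
    induction L with
    | nil => intro _ r; rfl
    | cons i L ih =>
      intro hL r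
      simp only [List.pmap, List.map_cons, List.prod_cons, Equiv.Perm.mul_apply, List.foldr_cons]
      rw [← ih fun j hj => hL j (List.mem_cons_of_mem _ hj)]
      rfl
  exact key T.word hT.word_facts.1 r

theorem piP_pow_val (hW : GoodWeyl D) (hT : T.Good D) (j : ℕ) (r : Root D) :
    ((piP hW hT ^ j) r : ℕ) = orbN D T j r := by
  induction j with
  | zero => rfl
  | succ j ih => rw [pow_succ', Equiv.Perm.mul_apply, piP_val, hT.perm_eq (Fin.isLt _), ih]; rfl

/-- The cyclic vector. -/
def alphaR (hT : T.Good D) : Root D := ⟨T.alpha, hT.word_facts.2.1⟩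

variable (hW : GoodWeyl D) (hT : T.Good D)

theorem piP_pow_ord : piP hW hT ^ T.ord = 1 :=
  Equiv.ext fun r => Fin.ext (by rw [piP_pow_val]; exact hT.word_facts.2.2.2 r r.isLt)

theorem Cert.Good.cartan_eq (r : Root D) (k : Fin D.rank) :
    D.cartan k r = ∑ j : Fin D.rank, cd T r j * D.cartan k ((piP hW hT ^ (j : ℕ)) (alphaR hT)) := by
  have h := hT.lin
  simp only [chkLin, List.all_eq_true, List.mem_range, beq_iff_eq] at h
  rw [← hW.good.cartanT_eq k.isLt r.isLt, h r r.isLt k k.isLt,
    ← List.map_coe_finRange_eq_range, List.map_map, ← List.ofFn_eq_map, List.sum_ofFn]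
  refine Finset.sum_congr rfl fun j _ => ?_
  simp only [Function.comp_apply]
  rw [← hW.good.cartanT_eq k.isLt ((piP hW hT ^ (j : ℕ)) (alphaR hT)).isLt, piP_pow_val]
  rfl

theorem Cert.Good.cd_piP (r : Root D) (j : Fin D.rank) :
    cd T (piP hW hT r) j =
      (if (j : ℕ) = 0 then 0 else cd T r (j - 1)) - cd T r (D.rank - 1) * pc T j := by
  have h := hT.step
  simp only [chkStep, List.all_eq_true, List.mem_range, beq_iff_eq] at h
  rw [piP_val, hT.perm_eq r.isLt]
  exact h r r.isLt j j.isLt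

theorem Cert.Good.cd_pow_alpha (i j : Fin D.rank) :
    cd T ((piP hW hT ^ (i : ℕ)) (alphaR hT)) j = if i = j then 1 else 0 := by
  have h := hT.base
  simp only [chkBase, List.all_eq_true, List.mem_range, beq_iff_eq] at h
  rw [piP_pow_val]
  show cd T (orbN D T i T.alpha) j = _
  rw [h i i.isLt j j.isLt]
  simp only [Fin.ext_iff]

theorem Cert.Good.inv_left (i j : Fin D.rank) :
    ∑ k : Fin D.rank, bi T i k * D.cartan k ((piP hW hT ^ (j : ℕ)) (alphaR hT)) =
      if i = j then 1 else 0 := by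
  have h := hT.inv
  simp only [chkInv, List.all_eq_true, List.mem_range, Bool.and_eq_true, beq_iff_eq] at h
  have h := (h i i.isLt j j.isLt).1
  rw [← List.map_coe_finRange_eq_range, List.map_map, ← List.ofFn_eq_map, List.sum_ofFn] at h
  simp only [Fin.ext_iff]
  rw [← h]
  refine Finset.sum_congr rfl fun k _ => ?_
  simp only [Function.comp_apply]
  rw [← hW.good.cartanT_eq k.isLt ((piP hW hT ^ (j : ℕ)) (alphaR hT)).isLt, piP_pow_val]
  rfl

theorem Cert.Good.inv_right (i j : Fin D.rank) :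
    ∑ k : Fin D.rank, D.cartan i ((piP hW hT ^ (k : ℕ)) (alphaR hT)) * bi T k j =
      if i = j then 1 else 0 := by
  have h := hT.inv
  simp only [chkInv, List.all_eq_true, List.mem_range, Bool.and_eq_true, beq_iff_eq] at h
  have h := (h i i.isLt j j.isLt).2
  rw [← List.map_coe_finRange_eq_range, List.map_map, ← List.ofFn_eq_map, List.sum_ofFn] at h
  simp only [Fin.ext_iff]
  rw [← h]
  refine Finset.sum_congr rfl fun k _ => ?_
  simp only [Function.comp_apply]
  rw [← hW.good.cartanT_eq i.isLt ((piP hW hT ^ (k : ℕ)) (alphaR hT)).isLt, piP_pow_val]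
  rfl

theorem Cert.Good.exists_rep (r : Root D) :
    ∃ x ∈ T.reps, ∃ (hx : x.1 < D.nroots) (j : ℕ), j < T.ord ∧ (piP hW hT ^ j) ⟨x.1, hx⟩ = r := by
  have h := hT.reps
  simp only [chkReps, Bool.and_eq_true, List.all_eq_true, List.any_eq_true, List.mem_range,
    beq_iff_eq, decide_eq_true_eq] at h
  obtain ⟨j, hj, x, hx, e⟩ := h.2 r r.isLt
  exact ⟨x, hx, (h.1 x hx).1, j, hj, Fin.ext (by rw [piP_pow_val]; exact e)⟩

theorem Cert.Good.cartan_injective (hW : GoodWeyl D) (hT : T.Good D) {r s : Root D}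
    (he : ∀ k : Fin D.rank, D.cartan k r = D.cartan k s) : r = s := by
  have h := hT.inj
  simp only [chkInj, List.all_eq_true, List.any_eq_true, List.mem_range, Bool.or_eq_true,
    beq_iff_eq, Bool.not_eq_true'] at h
  rcases h r r.isLt s s.isLt with h1 | ⟨k, hk, h1⟩
  · exact Fin.ext h1
  · rw [hW.good.cartanT_eq hk r.isLt, hW.good.cartanT_eq hk s.isLt, he ⟨k, hk⟩] at h1
    simp at h1

/-- A linear map sending the cyclic vector to a representative permutes the roots only for the
first one. -/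
theorem Cert.Good.rep_eq_alpha {x : ℕ × List ℤ × List ℤ × ℤ} (hx : x ∈ T.reps)
    (hxn : x.1 < D.nroots) (v : Root D → Root D)
    (hv : ∀ r (k : Fin D.rank), D.cartan k (v r) = ∑ j : Fin D.rank,
      cd T r j * D.cartan k ((piP hW hT ^ (j : ℕ)) ⟨x.1, hxn⟩)) : x.1 = T.alpha := by
  have h := hT.wits
  simp only [chkWits, List.all_eq_true, Bool.or_eq_true, beq_iff_eq, List.any_eq_true,
    Bool.and_eq_true, decide_eq_true_eq, List.mem_range, Bool.not_eq_true'] at h
  rcases h x hx with h1 | ⟨y, -, ⟨-, hy⟩, h2⟩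
  · exact h1
  exfalso
  obtain ⟨k, hk, h3⟩ := h2 _ (v ⟨y.2, hy⟩).isLt
  have h4 := hv ⟨y.2, hy⟩ ⟨k, hk⟩
  rw [← List.map_coe_finRange_eq_range, List.map_map, ← List.ofFn_eq_map, List.sum_ofFn,
    hW.good.cartanT_eq hk (v ⟨y.2, hy⟩).isLt] at h3
  refine (beq_eq_false_iff_ne.1 h3) (h4.trans (Finset.sum_congr rfl fun j _ => ?_))
  simp only [Function.comp_apply]
  rw [← hW.good.cartanT_eq hk ((piP hW hT ^ (j : ℕ)) ⟨x.1, hxn⟩).isLt, piP_pow_val]

/-! ### The residues -/

/-- The value at `q` of the coordinates of a root. -/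
def fval (T : Cert) (D : ChevalleyDatum) (q : ℤ) (r : ℕ) : ℤ :=
  ∑ j : Fin D.rank, cd T r j * q ^ (j : ℕ)

/-- The value at `q` of the polynomial. -/
def pval (T : Cert) (D : ChevalleyDatum) (q : ℤ) : ℤ :=
  q ^ D.rank + ∑ j : Fin D.rank, pc T j * q ^ (j : ℕ)

theorem fval_piP (q : ℤ) (r : Root D) :
    fval T D q (piP hW hT r) = q * fval T D q r - cd T r (D.rank - 1) * pval T D q := by
  obtain ⟨n, hn⟩ : ∃ n, D.rank = n + 1 := ⟨D.rank - 1, by have := hT.word_facts.2.2.1; omega⟩
  rw [fval, Finset.sum_congr rfl fun j _ => by rw [hT.cd_piP hW r j], fval, pval]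
  simp only [Fin.sum_univ_eq_sum_range
      (fun j : ℕ => ((if j = 0 then 0 else cd T r (j - 1)) - cd T r (D.rank - 1) * pc T j) * q ^ j),
    Fin.sum_univ_eq_sum_range (fun j : ℕ => cd T r j * q ^ j),
    Fin.sum_univ_eq_sum_range (fun j : ℕ => pc T j * q ^ j)]
  rw [hn, Nat.add_sub_cancel]
  simp only [sub_mul, Finset.sum_sub_distrib]
  rw [Finset.sum_range_succ' (fun j => (if j = 0 then 0 else cd T r (j - 1)) * q ^ j),
    Finset.sum_range_succ (fun j => cd T r j * q ^ j), mul_add q, mul_add, Finset.mul_sum,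
    Finset.mul_sum]
  simp only [Nat.succ_ne_zero, if_false, if_true, zero_mul, add_zero, Nat.add_sub_cancel]
  have e1 : ∑ x ∈ Finset.range n, cd T r x * q ^ (x + 1) =
      ∑ i ∈ Finset.range n, q * (cd T r i * q ^ i) := Finset.sum_congr rfl fun j _ => by ring
  have e2 : ∑ x ∈ Finset.range (n + 1), cd T r n * pc T x * q ^ x =
      ∑ i ∈ Finset.range (n + 1), cd T r n * (pc T i * q ^ i) :=
    Finset.sum_congr rfl fun j _ => by ring
  rw [e1, e2]
  ring

theorem fval_pow_alpha (q : ℤ) (j : Fin D.rank) :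
    fval T D q ((piP hW hT ^ (j : ℕ)) (alphaR hT)) = q ^ (j : ℕ) := by
  simp [fval, hT.cd_pow_alpha hW]

theorem fval_pow_modEq (q : ℤ) (j : ℕ) (r : Root D) :
    pval T D q ∣ fval T D q ((piP hW hT ^ j) r) - q ^ j * fval T D q r := by
  induction j with
  | zero => simp
  | succ j ih =>
    rw [pow_succ', Equiv.Perm.mul_apply, fval_piP hW hT]
    obtain ⟨d, hd⟩ := ih
    refine ⟨q * d - cd T ((piP hW hT ^ j) r : Root D) (D.rank - 1), ?_⟩
    rw [pow_succ]
    linear_combination q * hd

theorem evalL_addL (q : ℤ) : ∀ a b : List ℤ, evalL q (addL a b) = evalL q a + evalL q b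
  | [], b => by simp [addL, evalL]
  | x :: a, [] => by simp [addL, evalL]
  | x :: a, y :: b => by simp [addL, evalL, evalL_addL q a b]; ring

theorem evalL_mulL (q : ℤ) : ∀ a b : List ℤ, evalL q (mulL a b) = evalL q a * evalL q b
  | [], b => by simp [mulL, evalL]
  | x :: a, b => by
    have h : evalL q (b.map (x * ·)) = x * evalL q b := by
      induction b with
      | nil => simp [evalL]
      | cons y b ih => simp [evalL, ih]; ring
    simp [mulL, evalL, evalL_addL, evalL_mulL q a b, h]; ring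

theorem evalL_zero (q : ℤ) : ∀ a : List ℤ, (∀ x ∈ a, x = 0) → evalL q a = 0
  | [], _ => rfl
  | x :: a, h => by
    simp [evalL, h x (by simp), evalL_zero q a fun y hy => h y (List.mem_cons_of_mem _ hy)]

theorem evalL_eq (q : ℤ) : ∀ (a : List ℤ),
    evalL q a = ∑ j ∈ Finset.range a.length, a.getD j 0 * q ^ j
  | [] => by simp [evalL]
  | x :: a => by
    rw [evalL, evalL_eq q a, List.length_cons, Finset.sum_range_succ', Finset.mul_sum]
    simp only [List.getD_cons_succ, List.getD_cons_zero, pow_zero, mul_one]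
    rw [add_comm]
    congr 1
    exact Finset.sum_congr rfl fun j _ => by ring

theorem evalL_coordList (q : ℤ) (r : ℕ) : evalL q (coordList D T r) = fval T D q r := by
  rw [evalL_eq, fval, Fin.sum_univ_eq_sum_range (fun j : ℕ => cd T r j * q ^ j)]
  simp only [coordList, List.length_map, List.length_range]
  refine Finset.sum_congr rfl fun j hj => ?_
  rw [Finset.mem_range] at hj
  rw [List.getD_eq_getElem _ _ (by simpa using hj)]
  simp

theorem evalL_pol (hT : T.Good D) (q : ℤ) : evalL q (T.pol ++ [1]) = pval T D q := by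
  have h := hT.word
  simp only [chkWord, Bool.and_eq_true, decide_eq_true_eq] at h
  have hl : T.pol.length = D.rank := h.1.1.2
  rw [evalL_eq, pval, List.length_append, hl, List.length_singleton, Finset.sum_range_succ,
    Fin.sum_univ_eq_sum_range (fun j : ℕ => pc T j * q ^ j), add_comm]
  congr 1
  · rw [List.getD_append_right _ _ _ _ (by omega), hl]
    simp
  · refine Finset.sum_congr rfl fun j hj => ?_
    rw [Finset.mem_range] at hj
    rw [List.getD_append _ _ _ _ (by omega)]
    rfl

/-- A passed resultant check bounds the gcd with the polynomial. -/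
theorem not_dvd_of_bez (hT : T.Good D) {e A B : List ℤ} {R : ℤ} (h : bez T e A B R = true)
    (q : ℤ) (hq : (T.bound : ℤ) < pval T D q) : ¬ pval T D q ∣ evalL q e := by
  intro hdvd
  simp only [bez, Bool.and_eq_true, Bool.not_eq_true', beq_eq_false_iff_ne, decide_eq_true_eq] at h
  obtain ⟨⟨h1, hR⟩, hb⟩ := h
  have he : evalL q (addL (mulL e A) (mulL (T.pol ++ [1]) B)) = R := by
    revert h1
    cases addL (mulL e A) (mulL (T.pol ++ [1]) B) with
    | nil => intro h1; simp only [beq_iff_eq] at h1; simp [evalL, h1]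
    | cons x a =>
      intro h1
      simp only [Bool.and_eq_true, beq_iff_eq, List.all_eq_true] at h1
      simp [evalL, evalL_zero q a h1.2, h1.1]
  rw [evalL_addL, evalL_mulL, evalL_mulL, evalL_pol hT] at he
  have hdR : pval T D q ∣ R := he ▸ dvd_add (hdvd.mul_right _) (dvd_mul_right _ _)
  have := Int.natAbs_le_of_dvd_ne_zero hdR hR
  omega

include hW hT in
/-- No root has residue zero. -/
theorem not_dvd_fval (q : ℕ) (hq : (T.bound : ℤ) < pval T D q)
    (hcop : IsCoprime (pval T D q) (q : ℤ)) (r : Root D) : ¬ pval T D q ∣ fval T D q r := by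
  obtain ⟨x, hx, hxn, j, hj, rfl⟩ := hT.exists_rep hW r
  intro h
  have h2 := hT.reps
  simp only [chkReps, Bool.and_eq_true, List.all_eq_true] at h2
  have h3 := not_dvd_of_bez hT (h2.1 x hx).2 (q : ℤ) hq
  rw [evalL_coordList] at h3
  have h4 := dvd_sub h (fval_pow_modEq hW hT (q : ℤ) j ⟨x.1, hxn⟩)
  rw [sub_sub_cancel] at h4
  exact h3 ((hcop.pow_right).dvd_of_dvd_mul_left h4)

include hW hT in
/-- The powers of `q` below the order are not congruent to one. -/
theorem not_dvd_pow_sub_one (q : ℤ) (hq : (T.bound : ℤ) < pval T D q) {j : ℕ} (hj : j < T.ord)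
    (hj0 : j ≠ 0) : ¬ pval T D q ∣ q ^ j - 1 := by
  intro h
  have h2 := hT.pows
  simp only [chkPows, List.all_eq_true, List.mem_range, Bool.or_eq_true, beq_iff_eq] at h2
  have h3 := (h2 j hj).resolve_left hj0
  have h4 := not_dvd_of_bez hT h3 q hq
  rw [evalL_addL, evalL_coordList] at h4
  have h5 : evalL q [-1] = -1 := by simp [evalL]
  have h6 := fval_pow_modEq hW hT q j (alphaR hT)
  rw [piP_pow_val] at h6
  have h7 : fval T D q T.alpha = 1 := by
    have := fval_pow_alpha hW hT q ⟨0, hT.word_facts.2.2.1⟩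
    simpa [alphaR] using this
  rw [show ((alphaR hT : Root D) : ℕ) = T.alpha from rfl, h7, mul_one] at h6
  rw [h5] at h4
  refine h4 ?_
  have := dvd_add h6 h
  rwa [sub_add_sub_cancel, ← sub_eq_add_neg] at *

end CfsgLib.LangTorus
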